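import Groth.Agent.Lib.Helper18.CotT.Gen
import Groth.Agent.Lib.Helper18.KoszulH1

/-!
# `T² = 0` for a quotient by a (weakly) regular sequence
-/

set_option autoImplicit false

open TensorProduct

noncomputable section

namespace Groth.Agent.Helper18.GenT

universe u v t m

variable {R : Type u} {B : Type v} {σ : Type t} [CommRing R] [CommRing B] [Algebra R B]

lemma mem_gF0_of_mem_K {n : ℕ} (r : Fin n → R) (m : Fin n → R) (hm : m ∈ Koszul.K r R) :
    (Finsupp.linearEquivFunOnFinite R R (Fin n)).symm m ∈ gF0 r := by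
  classical
  induction hm using AddSubgroup.closure_induction with
  | mem y hy =>
    obtain ⟨i, j, x, rfl⟩ := hy
    rw [map_sub, Finsupp.linearEquivFunOnFinite_symm_single,
      Finsupp.linearEquivFunOnFinite_symm_single]
    refine Submodule.subset_span ⟨Finsupp.single i x, Finsupp.single j 1, ?_⟩
    rw [gj_single, gj_single, Finsupp.smul_single, Finsupp.smul_single]
    simp [mul_comm]
  | zero => rw [map_zero]; exact zero_mem _
  | add a b _ _ ha hb => rw [map_add]; exact add_mem ha hb
  | neg a _ ha => rw [map_neg]; exact neg_mem ha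

lemma gQ_le_gF0_of_isWeaklyRegular {n : ℕ} (r : Fin n → R)
    (h : RingTheory.Sequence.IsWeaklyRegular R (List.ofFn r)) : gQ r ≤ gF0 r := by
  classical
  intro f hf
  have hf' : gj r f = 0 := hf
  have hsum : ∑ i, r i • (⇑f : Fin n → R) i = 0 := by
    rw [← hf']
    simp [gj, Finsupp.linearCombination_apply, Finsupp.sum_fintype, mul_comm]
  have hK := Koszul.mem_K_of_isWeaklyRegular n r R h _ hsum
  have := mem_gF0_of_mem_K r _ hK
  convert this using 1
  ext i
  simp

variable (rel : σ → R) (hrel : ∀ s, algebraMap R B (rel s) = 0)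
variable (M : Type m) [AddCommGroup M] [Module B M]

lemma subsingleton_gL2_of_gQ_le_gF0 (h : gQ rel ≤ gF0 rel) : Subsingleton (gL2 B rel) := by
  rw [Submodule.Quotient.subsingleton_iff, eq_top_iff]
  rintro x -
  induction x using TensorProduct.induction_on with
  | zero => exact zero_mem _
  | tmul b q =>
    refine ⟨b ⊗ₜ ⟨q, ?_⟩, ?_⟩
    · exact h q.2
    · simp
  | add x y hx hy => exact add_mem hx hy

lemma subsingleton_gT2_of_gQ_le_gF0 (h : gQ rel ≤ gF0 rel) : Subsingleton (gT2 rel hrel M) := by
  have := subsingleton_gL2_of_gQ_le_gF0 (B := B) rel h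
  have : Subsingleton (gL2 B rel →ₗ[B] M) :=
    ⟨fun f g => LinearMap.ext fun x => by rw [Subsingleton.elim x 0, map_zero, map_zero]⟩
  exact Quotient.instSubsingletonQuotient _

end Groth.Agent.Helper18.GenT

end
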