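import Groth.Agent.Lib.Helper18.CotT.GenHtpy

/-!
# Constructing morphisms of relation data; invariance of `T²` under ring isomorphisms
-/

set_option autoImplicit false

open TensorProduct

noncomputable section

namespace Groth.Agent.Helper18.GenT

universe u u' v t t' m

variable {R : Type u} {R' : Type u'} {B : Type v} {σ : Type t} {σ' : Type t'}
  [CommRing R] [CommRing R'] [CommRing B] [Algebra R B] [Algebra R' B]
  {rel : σ → R} {rel' : σ' → R'}

/-- The `τ`-semilinear map `F → F'` with `e_s ↦ relVal s`. -/
def liftW (τ : R →+* R') (relVal : σ → gF (R := R') (σ := σ')) :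
    gF (R := R) (σ := σ) →ₛₗ[τ] gF (R := R') (σ := σ') where
  toFun f := Finsupp.linearCombination R' relVal (Finsupp.mapRange τ (map_zero _) f)
  map_add' f g := by rw [Finsupp.mapRange_add (map_add _), map_add]
  map_smul' r f := by
    rw [← map_smul]
    congr 1
    ext s
    simp [Finsupp.mapRange_apply, map_mul]

@[simp] lemma liftW_single (τ : R →+* R') (relVal : σ → gF (R := R') (σ := σ')) (s : σ) (r : R) :
    liftW τ relVal (Finsupp.single s r) = τ r • relVal s := by
  simp [liftW]

lemma gj_liftW (τ : R →+* R') (relVal : σ → gF (R := R') (σ := σ'))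
    (h : ∀ s, gj rel' (relVal s) = τ (rel s)) (f : gF (R := R) (σ := σ)) :
    gj rel' (liftW τ relVal f) = τ (gj rel f) := by
  induction f using Finsupp.induction_linear with
  | zero => simp
  | add f g hf hg => rw [map_add, map_add, hf, hg, map_add, map_add]
  | single s r => rw [liftW_single, map_smul, h, gj_single, smul_eq_mul, map_mul]

/-- The morphism determined by a ring map and lifts of the relations. -/
def Mor.ofLift (τ : R →+* R') (hτ : ∀ r, algebraMap R' B (τ r) = algebraMap R B r)
    (relVal : σ → gF (R := R') (σ := σ')) (h : ∀ s, gj rel' (relVal s) = τ (rel s)) :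
    Mor (B := B) rel rel' where
  τ := τ
  hτ := hτ
  w := liftW τ relVal
  hw := gj_liftW τ relVal h

lemma range_gj (rel : σ → R) : LinearMap.range (gj rel) = Ideal.span (Set.range rel) := by
  rw [gj, Finsupp.range_linearCombination]

/-- Existence of a morphism over a compatible ring map when `rel'` generates the kernel. -/
lemma exists_mor (τ : R →+* R') (hτ : ∀ r, algebraMap R' B (τ r) = algebraMap R B r)
    (hrel : ∀ s, algebraMap R B (rel s) = 0)
    (hker' : Ideal.span (Set.range rel') = RingHom.ker (algebraMap R' B)) :
    ∃ h : Mor (B := B) rel rel', h.τ = τ := by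
  have hex : ∀ s, ∃ v : gF (R := R') (σ := σ'), gj rel' v = τ (rel s) := by
    intro s
    have hmem : τ (rel s) ∈ LinearMap.range (gj rel') := by
      rw [range_gj, hker', RingHom.mem_ker, hτ, hrel]
    exact hmem
  choose relVal hrelVal using hex
  exact ⟨Mor.ofLift τ hτ relVal hrelVal, rfl⟩

variable (hrel : ∀ s, algebraMap R B (rel s) = 0) (hrel' : ∀ s, algebraMap R' B (rel' s) = 0)
variable (M : Type m) [AddCommGroup M] [Module B M]

/-- `T²` is invariant under ring isomorphisms compatible with the maps to `B`, for any generating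
families of relations. -/
theorem nonempty_T2equiv_of_ringEquiv (e : R ≃+* R')
    (he : ∀ r, algebraMap R' B (e r) = algebraMap R B r)
    (hker : Ideal.span (Set.range rel) = RingHom.ker (algebraMap R B))
    (hker' : Ideal.span (Set.range rel') = RingHom.ker (algebraMap R' B)) :
    Nonempty (gT2 rel hrel M ≃ₗ[B] gT2 rel' hrel' M) := by
  have he' : ∀ r, algebraMap R B (e.symm r) = algebraMap R' B r := by
    intro r
    rw [← he, RingEquiv.apply_symm_apply]
  obtain ⟨h, hh⟩ := exists_mor (B := B) (rel := rel) (rel' := rel') (e : R →+* R') he hrel hker'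
  obtain ⟨h', hh'⟩ := exists_mor (B := B) (rel := rel') (rel' := rel) (e.symm : R' →+* R) he' hrel' hker
  refine ⟨Mor.T2equiv hrel hrel' M h h' ?_ ?_⟩
  · intro r
    rw [hh, hh']
    exact e.symm_apply_apply r
  · intro r
    rw [hh, hh']
    exact e.apply_symm_apply r

end Groth.Agent.Helper18.GenT

end
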