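import Groth.Agent.Lib.Helper18.CotT.Bridge

/-!
# `T²` is independent of the presentation
-/

set_option autoImplicit false

open TensorProduct MvPolynomial

noncomputable section

namespace Groth.Agent.Helper18.GenT

universe u v w t w' t' m

variable {A : Type u} {B : Type v} {ι : Type w} {σ : Type t} {ι' : Type w'} {σ' : Type t'}
variable [CommRing A] [CommRing B] [Algebra A B]

lemma presentation_algebraMap_C (P : Algebra.Presentation A B ι σ) (a : A) :
    algebraMap P.toExtension.Ring B (C a) = algebraMap A B a := by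
  erw [P.algebraMap_apply]
  simp

lemma presentation_algebraMap_X (P : Algebra.Presentation A B ι σ) (i : ι) :
    algebraMap P.toExtension.Ring B (X i) = P.val i := by
  erw [P.algebraMap_apply]
  simp

theorem nonempty_T2_equiv (P : Algebra.Presentation A B ι σ) (P' : Algebra.Presentation A B ι' σ')
    (M : Type m) [AddCommGroup M] [Module B M] :
    Nonempty (CotT.T2 P M ≃ₗ[B] CotT.T2 P' M) := by
  classical
  -- the two big polynomial rings
  letI alg₃ : Algebra (MvPolynomial (ι' ⊕ ι) A) B :=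
    (aeval (Sum.elim P'.val P.val) : MvPolynomial (ι' ⊕ ι) A →ₐ[A] B).toRingHom.toAlgebra
  letI alg₃' : Algebra (MvPolynomial (ι ⊕ ι') A) B :=
    (aeval (Sum.elim P.val P'.val) : MvPolynomial (ι ⊕ ι') A →ₐ[A] B).toRingHom.toAlgebra
  have hC₃ : ∀ a, algebraMap (MvPolynomial (ι' ⊕ ι) A) B (C a) = algebraMap A B a := fun a =>
    aeval_C _ a
  have hX₃ : ∀ c, algebraMap (MvPolynomial (ι' ⊕ ι) A) B (X c) = Sum.elim P'.val P.val c :=
    fun c => aeval_X _ c
  have hC₃' : ∀ a, algebraMap (MvPolynomial (ι ⊕ ι') A) B (C a) = algebraMap A B a := fun a =>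
    aeval_C _ a
  have hX₃' : ∀ c, algebraMap (MvPolynomial (ι ⊕ ι') A) B (X c) = Sum.elim P.val P'.val c :=
    fun c => aeval_X _ c
  -- all kernel elements as relations
  let rel₃ : RingHom.ker (algebraMap (MvPolynomial (ι' ⊕ ι) A) B) → MvPolynomial (ι' ⊕ ι) A :=
    Subtype.val
  let rel₃' : RingHom.ker (algebraMap (MvPolynomial (ι ⊕ ι') A) B) → MvPolynomial (ι ⊕ ι') A :=
    Subtype.val
  have hrel₃ : ∀ s, algebraMap (MvPolynomial (ι' ⊕ ι) A) B (rel₃ s) = 0 := fun s => s.2
  have hrel₃' : ∀ s, algebraMap (MvPolynomial (ι ⊕ ι') A) B (rel₃' s) = 0 := fun s => s.2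
  have hker₃ : Ideal.span (Set.range rel₃) = RingHom.ker (algebraMap (MvPolynomial (ι' ⊕ ι) A) B) := by
    rw [Subtype.range_val]
    exact Ideal.span_eq _
  have hker₃' : Ideal.span (Set.range rel₃') =
      RingHom.ker (algebraMap (MvPolynomial (ι ⊕ ι') A) B) := by
    rw [Subtype.range_val]
    exact Ideal.span_eq _
  -- the two comparisons
  letI algP : Algebra (MvPolynomial ι A) B := inferInstanceAs (Algebra P.toExtension.Ring B)
  letI algP' : Algebra (MvPolynomial ι' A) B := inferInstanceAs (Algebra P'.toExtension.Ring B)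
  obtain ⟨e₁⟩ := nonempty_gT2_equiv_sum (A := A) (B := B) (ι := ι) P.val
    (presentation_algebraMap_C P) (presentation_algebraMap_X P) P.algebraMap_surjective
    (CotT.rel P) (CotT.algebraMap_rel P) (P.span_range_relation_eq_ker) P'.val hC₃ hX₃ rel₃ hrel₃ hker₃ M
  obtain ⟨e₂⟩ := nonempty_gT2_equiv_sum (A := A) (B := B) (ι := ι') P'.val
    (presentation_algebraMap_C P') (presentation_algebraMap_X P') P'.algebraMap_surjective
    (CotT.rel P') (CotT.algebraMap_rel P') (P'.span_range_relation_eq_ker) P.val hC₃' hX₃' rel₃' hrel₃'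
    hker₃' M
  -- the swap
  have hswap : ∀ p, algebraMap (MvPolynomial (ι ⊕ ι') A) B
      ((renameEquiv A (Equiv.sumComm ι' ι)).toRingEquiv p) =
      algebraMap (MvPolynomial (ι' ⊕ ι) A) B p := by
    intro p
    change aeval (Sum.elim P.val P'.val) (rename (Equiv.sumComm ι' ι) p) =
      aeval (Sum.elim P'.val P.val) p
    rw [aeval_rename]
    have hfun : (Sum.elim P.val P'.val ∘ (Equiv.sumComm ι' ι)) = Sum.elim P'.val P.val := by
      funext c
      rcases c with c | c <;> rfl
    rw [hfun]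
  obtain ⟨e₃⟩ := nonempty_T2equiv_of_ringEquiv hrel₃ hrel₃' M
    (renameEquiv A (Equiv.sumComm ι' ι)).toRingEquiv hswap hker₃ hker₃'
  exact ⟨(e₁.trans e₃).trans e₂.symm⟩

end Groth.Agent.Helper18.GenT

end
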