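import Mathlib
import Groth.Prelude.Def_CotT2

/-!
# A ring-level version of `L₂ → L₁` and `T²`

For a commutative ring `R`, an `R`-algebra `B` and a family `rel : σ → R` of elements of the kernel
of `R → B`, we mirror the definitions of `CotT` (which are stated for presentations): the free module
`F` on `σ`, `j : F → R`, the relation module `Q`, the trivial relations `F₀`, `L₁ = B ⊗ F`,
`L₂ = (B ⊗ Q)/(B ⊗ F₀)` and `T²(M) = Hom(L₂, M)/Hom(L₁, M)`.
-/

set_option autoImplicit false

open TensorProduct

noncomputable section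

namespace Groth.Agent.Helper18.GenT

universe u v t m

variable {R : Type u} {B : Type v} {σ : Type t} [CommRing R] [CommRing B] [Algebra R B]
variable (rel : σ → R)

/-- The free module on the relation indices. -/
abbrev gF : Type (max t u) := σ →₀ R

/-- `j : F → R`. -/
def gj : gF (R := R) (σ := σ) →ₗ[R] R := Finsupp.linearCombination R rel

@[simp] lemma gj_single (s : σ) (r : R) : gj rel (Finsupp.single s r) = r * rel s := by
  simp [gj, Finsupp.linearCombination_single]

/-- The relation module. -/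
def gQ : Submodule R (gF (R := R) (σ := σ)) := LinearMap.ker (gj rel)

/-- The trivial relations. -/
def gF0 : Submodule R (gF (R := R) (σ := σ)) :=
  Submodule.span R {y | ∃ a b : gF (R := R) (σ := σ), y = gj rel a • b - gj rel b • a}

lemma gF0_le_gQ : gF0 rel ≤ gQ rel := by
  refine Submodule.span_le.mpr ?_
  rintro _ ⟨a, b, rfl⟩
  simp [gQ, mul_comm]

/-- The trivial relations inside `Q`. -/
def gF0Q : Submodule R (gQ rel) := (gF0 rel).comap (gQ rel).subtype

variable (B)

/-- `L₁ = B ⊗ F`. -/
abbrev gL1 : Type (max v t u) := B ⊗[R] gF (R := R) (σ := σ)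

/-- `L₂ = (B ⊗ Q)/(image of B ⊗ F₀)`. -/
abbrev gL2 : Type (max v t u) :=
  (B ⊗[R] (gQ rel)) ⧸ LinearMap.range ((gF0Q rel).subtype.baseChange B)

variable {B}

variable (hrel : ∀ s, algebraMap R B (rel s) = 0)

include hrel in
lemma algebraMap_gj (f : gF (R := R) (σ := σ)) : algebraMap R B (gj rel f) = 0 := by
  induction f using Finsupp.induction_linear with
  | zero => simp
  | add f g hf hg => rw [map_add, map_add, hf, hg, add_zero]
  | single s r => rw [gj_single, map_mul, hrel, mul_zero]

include hrel in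
lemma one_tmul_eq_zero_of_mem_gF0 (y : gF (R := R) (σ := σ)) (hy : y ∈ gF0 rel) :
    (1 : B) ⊗ₜ[R] y = (0 : gL1 (R := R) B (σ := σ)) := by
  have : gF0 rel ≤ LinearMap.ker (TensorProduct.mk R B (gF (R := R) (σ := σ)) 1) := by
    refine Submodule.span_le.mpr ?_
    rintro _ ⟨a, b, rfl⟩
    simp only [SetLike.mem_coe, LinearMap.mem_ker, map_sub, map_smul, TensorProduct.mk_apply]
    rw [TensorProduct.smul_tmul', TensorProduct.smul_tmul', Algebra.smul_def, Algebra.smul_def,
      algebraMap_gj rel hrel, algebraMap_gj rel hrel, zero_mul, TensorProduct.zero_tmul,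
      TensorProduct.zero_tmul, sub_zero]
  exact this hy

include hrel in
lemma range_gF0_baseChange_le :
    LinearMap.range ((gF0Q rel).subtype.baseChange B) ≤
      LinearMap.ker ((gQ rel).subtype.baseChange B) := by
  rw [LinearMap.range_le_ker_iff]
  refine TensorProduct.AlgebraTensorModule.ext fun b k => ?_
  simp only [LinearMap.coe_comp, Function.comp_apply, LinearMap.baseChange_tmul,
    Submodule.coe_subtype, LinearMap.zero_apply]
  have hk : ((k : gQ rel) : gF (R := R) (σ := σ)) ∈ gF0 rel := k.2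
  rw [← mul_one b, ← smul_eq_mul, ← TensorProduct.smul_tmul',
    one_tmul_eq_zero_of_mem_gF0 rel hrel _ hk, smul_zero]

/-- `d₂ : L₂ → L₁`. -/
def gd2 : gL2 B rel →ₗ[B] gL1 (R := R) B (σ := σ) :=
  Submodule.liftQ _ ((gQ rel).subtype.baseChange B) (range_gF0_baseChange_le rel hrel)

@[simp] lemma gd2_mk_tmul (b : B) (q : gQ rel) :
    gd2 rel hrel (Submodule.Quotient.mk (b ⊗ₜ q)) = b ⊗ₜ (q : gF (R := R) (σ := σ)) := by
  simp [gd2]

variable (M : Type m) [AddCommGroup M] [Module B M]

/-- precomposition with `d₂` -/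
def gd2Star : (gL1 (R := R) B (σ := σ) →ₗ[B] M) →ₗ[B] (gL2 B rel →ₗ[B] M) :=
  LinearMap.lcomp B M (gd2 rel hrel)

variable {M} in
@[simp] lemma gd2Star_apply (φ : gL1 (R := R) B (σ := σ) →ₗ[B] M) :
    gd2Star rel hrel M φ = φ ∘ₗ gd2 rel hrel := rfl

/-- `T²`. -/
abbrev gT2 : Type (max v t u m) := (gL2 B rel →ₗ[B] M) ⧸ LinearMap.range (gd2Star rel hrel M)

end Groth.Agent.Helper18.GenT

end
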