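import Mathlib
import Groth.Prelude.Def_CotT2

/-!
# Exactness of `L₂ → L₁ → I/I² → 0`
-/

set_option autoImplicit false

open TensorProduct

noncomputable section

namespace Groth.Agent.Helper18.CotTLib

open CotT

universe u v w t m

variable {A : Type u} {B : Type v} {ι : Type w} {σ : Type t}
variable [CommRing A] [CommRing B] [Algebra A B]
variable (P : Algebra.Presentation A B ι σ)

lemma toCot_surjective : Function.Surjective (toCot P) := by
  intro x
  obtain ⟨y, rfl⟩ := Algebra.Extension.Cotangent.mk_surjective x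
  have hy : (y : P.toExtension.Ring) ∈ LinearMap.range (jmap P) := by
    rw [range_jmap]
    exact y.2
  obtain ⟨f, hf⟩ := hy
  refine ⟨(1 : B) ⊗ₜ f, ?_⟩
  rw [toCot_tmul, one_smul]
  congr 1
  exact Subtype.ext hf

lemma exists_one_tmul (x : L1 P) : ∃ f : relMod P, x = (1 : B) ⊗ₜ f := by
  induction x using TensorProduct.induction_on with
  | zero => exact ⟨0, by simp⟩
  | tmul b f =>
    have hs : Function.Surjective (algebraMap P.toExtension.Ring B) := P.algebraMap_surjective
    obtain ⟨r, rfl⟩ := hs b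
    refine ⟨r • f, ?_⟩
    rw [TensorProduct.tmul_smul, TensorProduct.smul_tmul', Algebra.smul_def, mul_one]
  | add x y hx hy =>
    obtain ⟨f, rfl⟩ := hx
    obtain ⟨g, rfl⟩ := hy
    exact ⟨f + g, by rw [TensorProduct.tmul_add]⟩

lemma one_tmul_eq_zero_of_mem_smul (g : relMod P)
    (hg : g ∈ P.toExtension.ker • (⊤ : Submodule P.toExtension.Ring (relMod P))) :
    ((1 : B) ⊗ₜ g : L1 P) = 0 := by
  refine Submodule.smul_induction_on hg ?_ ?_
  · intro a ha h _
    rw [TensorProduct.tmul_smul, TensorProduct.smul_tmul', Algebra.smul_def, mul_one]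
    have : algebraMap P.toExtension.Ring B a = 0 := ha
    rw [this, TensorProduct.zero_tmul]
  · intro x y hx hy
    rw [TensorProduct.tmul_add, hx, hy, add_zero]

lemma ker_toCot_le_range_d2 : LinearMap.ker (toCot P) ≤ LinearMap.range (d2 P) := by
  intro x hx
  obtain ⟨f, rfl⟩ := exists_one_tmul P x
  rw [LinearMap.mem_ker, toCot_tmul, one_smul, Algebra.Extension.Cotangent.mk_eq_zero_iff] at hx
  have h1 : jmap P f ∈ P.toExtension.ker • LinearMap.range (jmap P) := by
    rw [range_jmap]
    have : (jker P f : P.toExtension.Ring) = jmap P f := rfl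
    rw [this, pow_two] at hx
    exact hx
  rw [LinearMap.range_eq_map, ← Submodule.map_smul''] at h1
  obtain ⟨g, hg, hgf⟩ := h1
  have hq : f - g ∈ relKer P := by
    change jmap P (f - g) = 0
    rw [map_sub, hgf, sub_self]
  refine ⟨Submodule.Quotient.mk ((1 : B) ⊗ₜ ⟨f - g, hq⟩), ?_⟩
  rw [d2_mk_tmul]
  change (1 : B) ⊗ₜ (f - g) = _
  rw [TensorProduct.tmul_sub, one_tmul_eq_zero_of_mem_smul P g hg, sub_zero]

lemma range_d2_eq_ker_toCot : LinearMap.range (d2 P) = LinearMap.ker (toCot P) := by
  apply le_antisymm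
  · rw [LinearMap.range_le_ker_iff]
    exact toCot_comp_d2 P
  · exact ker_toCot_le_range_d2 P

end Groth.Agent.Helper18.CotTLib

end
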