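import Groth.Agent.Lib.Helper18.CotT.Gen

/-!
# Morphisms of ring-level relation data and induced maps on `L₂`, `T²`
-/

set_option autoImplicit false

open TensorProduct

noncomputable section

namespace Groth.Agent.Helper18.GenT

universe u u' u'' v t t' t'' m n n'

section TMap

variable {R : Type u} {R' : Type u'} {B : Type v}
  [CommRing R] [CommRing R'] [CommRing B] [Algebra R B] [Algebra R' B]
variable (τ : R →+* R') (hτ : ∀ r, algebraMap R' B (τ r) = algebraMap R B r)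
variable {N : Type n} {N' : Type n'} [AddCommMonoid N] [Module R N] [AddCommMonoid N'] [Module R' N']
variable (g : N →ₛₗ[τ] N')

/-- `b ⊗ x ↦ b ⊗ g x`, as a `B`-linear map. -/
def tmapLin : B ⊗[R] N →ₗ[B] B ⊗[R'] N' where
  toFun := CotT.tensorMap (B' := B) τ (fun r => by rw [hτ]; rfl) g
  map_add' x y := map_add _ x y
  map_smul' b x := by
    rw [LinearMap.map_smulₛₗ]
    rfl

@[simp] lemma tmapLin_tmul (b : B) (x : N) : tmapLin τ hτ g (b ⊗ₜ x) = b ⊗ₜ g x := rfl

end TMap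

variable {R : Type u} {R' : Type u'} {R'' : Type u''} {B : Type v}
  {σ : Type t} {σ' : Type t'} {σ'' : Type t''}
  [CommRing R] [CommRing R'] [CommRing R''] [CommRing B] [Algebra R B] [Algebra R' B] [Algebra R'' B]

/-- A morphism of relation data over `B`. -/
structure Mor (rel : σ → R) (rel' : σ' → R') where
  /-- the ring map -/
  τ : R →+* R'
  hτ : ∀ r, algebraMap R' B (τ r) = algebraMap R B r
  /-- the map on free modules -/
  w : gF (R := R) (σ := σ) →ₛₗ[τ] gF (R := R') (σ := σ')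
  hw : ∀ f, gj rel' (w f) = τ (gj rel f)

namespace Mor

variable {rel : σ → R} {rel' : σ' → R'} {rel'' : σ'' → R''}

/-- The identity morphism. -/
def id (rel : σ → R) : Mor (B := B) rel rel where
  τ := RingHom.id R
  hτ _ := rfl
  w := LinearMap.id
  hw _ := rfl

/-- Composition of morphisms. -/
def comp (h' : Mor (B := B) rel' rel'') (h : Mor (B := B) rel rel') : Mor (B := B) rel rel'' where
  τ := h'.τ.comp h.τ
  hτ r := by rw [RingHom.comp_apply, h'.hτ, h.hτ]
  w := haveI : RingHomCompTriple h.τ h'.τ (h'.τ.comp h.τ) := ⟨rfl⟩; h'.w.comp h.w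
  hw f := by
    haveI : RingHomCompTriple h.τ h'.τ (h'.τ.comp h.τ) := ⟨rfl⟩
    rw [LinearMap.comp_apply, h'.hw, h.hw, RingHom.comp_apply]

variable (h : Mor (B := B) rel rel')

/-- `Q → Q'`. -/
def wQ : gQ rel →ₛₗ[h.τ] gQ rel' :=
  (h.w.comp (gQ rel).subtype).codRestrict (gQ rel') (fun q => by
    change gj rel' (h.w (q : gF)) = 0
    rw [h.hw, show gj rel (q : gF) = 0 from q.2, map_zero])

@[simp] lemma wQ_coe (q : gQ rel) : (h.wQ q : gF (R := R') (σ := σ')) = h.w q := rfl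

lemma w_mem_gF0 {y : gF (R := R) (σ := σ)} (hy : y ∈ gF0 rel) : h.w y ∈ gF0 rel' := by
  induction hy using Submodule.span_induction with
  | mem x hx =>
    obtain ⟨a, b, rfl⟩ := hx
    refine Submodule.subset_span ⟨h.w a, h.w b, ?_⟩
    rw [map_sub, LinearMap.map_smulₛₗ, LinearMap.map_smulₛₗ, h.hw, h.hw]
  | zero => simp
  | add x y _ _ hx hy => rw [map_add]; exact Submodule.add_mem _ hx hy
  | smul r x _ hx => rw [LinearMap.map_smulₛₗ]; exact Submodule.smul_mem _ _ hx

/-- `L₁ → L₁'`. -/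
def L1map : gL1 (R := R) B (σ := σ) →ₗ[B] gL1 (R := R') B (σ := σ') :=
  tmapLin h.τ h.hτ h.w

@[simp] lemma L1map_tmul (b : B) (f : gF (R := R) (σ := σ)) :
    h.L1map (b ⊗ₜ f) = b ⊗ₜ h.w f := rfl

/-- Auxiliary: `B ⊗ Q → L₂'`. -/
def L2mapAux : B ⊗[R] gQ rel →ₗ[B] gL2 B rel' :=
  (Submodule.mkQ _) ∘ₗ tmapLin h.τ h.hτ h.wQ

lemma L2mapAux_tmul (b : B) (q : gQ rel) :
    h.L2mapAux (b ⊗ₜ q) = Submodule.Quotient.mk (b ⊗ₜ h.wQ q) := rfl

/-- `L₂ → L₂'`. -/
def L2map : gL2 B rel →ₗ[B] gL2 B rel' :=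
  Submodule.liftQ _ h.L2mapAux (by
    rintro _ ⟨z, rfl⟩
    rw [LinearMap.mem_ker]
    induction z using TensorProduct.induction_on with
    | zero => simp
    | add x y hx hy => rw [map_add, map_add, hx, hy, add_zero]
    | tmul b k =>
      rw [LinearMap.baseChange_tmul, L2mapAux_tmul, Submodule.Quotient.mk_eq_zero]
      refine ⟨b ⊗ₜ ⟨h.wQ (k : gQ rel), ?_⟩, rfl⟩
      change (h.wQ (k : gQ rel) : gF (R := R') (σ := σ')) ∈ gF0 rel'
      rw [wQ_coe]
      exact h.w_mem_gF0 k.2)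

@[simp] lemma L2map_mk_tmul (b : B) (q : gQ rel) :
    h.L2map (Submodule.Quotient.mk (b ⊗ₜ q)) = Submodule.Quotient.mk (b ⊗ₜ h.wQ q) := rfl

/-- Induction principle for `L₂`. -/
lemma gL2_induction {rel : σ → R} {p : gL2 B rel → Prop}
    (h0 : p 0) (hadd : ∀ x y, p x → p y → p (x + y))
    (hmk : ∀ (b : B) (q : gQ rel), p (Submodule.Quotient.mk (b ⊗ₜ q))) (z : gL2 B rel) : p z := by
  induction z using Submodule.Quotient.induction_on with
  | H z =>
    induction z using TensorProduct.induction_on with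
    | zero => exact h0
    | add x y hx hy => rw [Submodule.Quotient.mk_add]; exact hadd _ _ hx hy
    | tmul b q => exact hmk b q

variable (hrel : ∀ s, algebraMap R B (rel s) = 0) (hrel' : ∀ s, algebraMap R' B (rel' s) = 0)

lemma d2_L2map (z : gL2 B rel) : gd2 rel' hrel' (h.L2map z) = h.L1map (gd2 rel hrel z) := by
  induction z using gL2_induction with
  | h0 => simp
  | hadd x y hx hy => rw [map_add, map_add, hx, hy, map_add, map_add]
  | hmk b q => rw [L2map_mk_tmul, gd2_mk_tmul, gd2_mk_tmul, L1map_tmul, wQ_coe]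

variable (M : Type m) [AddCommGroup M] [Module B M]

/-- `T²(rel', M) → T²(rel, M)`. -/
def T2pull : gT2 rel' hrel' M →ₗ[B] gT2 rel hrel M :=
  Submodule.mapQ _ _ (LinearMap.lcomp B M h.L2map) (by
    rintro _ ⟨ψ, rfl⟩
    refine ⟨ψ ∘ₗ h.L1map, ?_⟩
    ext z
    simp only [gd2Star_apply, LinearMap.lcomp_apply', LinearMap.coe_comp, Function.comp_apply]
    rw [h.d2_L2map hrel hrel'])

lemma T2pull_mk (φ : gL2 B rel' →ₗ[B] M) :
    h.T2pull hrel hrel' M (Submodule.Quotient.mk φ) = Submodule.Quotient.mk (φ ∘ₗ h.L2map) := rfl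

end Mor

end Groth.Agent.Helper18.GenT

end
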