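import Groth.Agent.Lib.Helper18.CotT.Exact

/-!
# `T⁰` is `Hom(Ω_{B/A}, M)`
-/

set_option autoImplicit false

open TensorProduct

noncomputable section

namespace Groth.Agent.Helper18.CotTLib

open CotT

universe u v w t m

variable {A : Type u} {B : Type v} {ι : Type w} {σ : Type t}
variable [CommRing A] [CommRing B] [Algebra A B]
variable (P : Algebra.Presentation A B ι σ)
variable (M : Type m) [AddCommGroup M] [Module B M]

lemma toKaehler_comp_d1 : P.toExtension.toKaehler ∘ₗ d1 P = 0 := by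
  rw [d1, ← LinearMap.comp_assoc]
  have : P.toExtension.toKaehler ∘ₗ P.toExtension.cotangentComplex = 0 :=
    (P.toExtension.exact_cotangentComplex_toKaehler).linearMap_comp_eq_zero
  rw [this, LinearMap.zero_comp]

/-- `ψ ↦ ψ ∘ toKaehler`. -/
def homKaehlerToT0 : (Ω[B⁄A] →ₗ[B] M) →ₗ[B] T0 P M :=
  LinearMap.codRestrict (LinearMap.ker (d1Star P M))
    (LinearMap.lcomp B M P.toExtension.toKaehler) (fun ψ => by
      rw [LinearMap.mem_ker, d1Star_apply, LinearMap.lcomp_apply', LinearMap.comp_assoc,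
        toKaehler_comp_d1, LinearMap.comp_zero])

lemma homKaehlerToT0_val (ψ : Ω[B⁄A] →ₗ[B] M) :
    (homKaehlerToT0 P M ψ : L0 P →ₗ[B] M) = ψ ∘ₗ P.toExtension.toKaehler := rfl

lemma homKaehlerToT0_bijective : Function.Bijective (homKaehlerToT0 P M) := by
  have hsurj : Function.Surjective P.toExtension.toKaehler := P.toExtension.toKaehler_surjective
  constructor
  · intro ψ ψ' h
    have h' := congrArg Subtype.val h
    rw [homKaehlerToT0_val, homKaehlerToT0_val] at h'
    ext x
    obtain ⟨y, rfl⟩ := hsurj x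
    exact congrArg (fun k => k y) h'
  · intro φ
    have hφ : (φ : L0 P →ₗ[B] M) ∘ₗ d1 P = 0 := by
      have := φ.2
      rw [LinearMap.mem_ker, d1Star_apply] at this
      exact this
    have hφ' : (φ : L0 P →ₗ[B] M) ∘ₗ P.toExtension.cotangentComplex = 0 := by
      ext x
      obtain ⟨y, rfl⟩ := toCot_surjective P x
      exact congrArg (fun k => k y) hφ
    have hker : LinearMap.ker P.toExtension.toKaehler ≤ LinearMap.ker (φ : L0 P →ₗ[B] M) := by
      intro x hx
      obtain ⟨y, rfl⟩ := (P.toExtension.exact_cotangentComplex_toKaehler x).1 hx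
      exact congrArg (fun k => k y) hφ'
    let ψ : Ω[B⁄A] →ₗ[B] M :=
      (Submodule.liftQ _ (φ : L0 P →ₗ[B] M) hker) ∘ₗ
        (P.toExtension.toKaehler.quotKerEquivOfSurjective hsurj).symm.toLinearMap
    refine ⟨ψ, Subtype.ext ?_⟩
    rw [homKaehlerToT0_val]
    ext x
    simp only [ψ, LinearMap.coe_comp, LinearEquiv.coe_coe, Function.comp_apply]
    have : (P.toExtension.toKaehler.quotKerEquivOfSurjective hsurj).symm
        (P.toExtension.toKaehler x) = Submodule.Quotient.mk x := by
      rw [LinearEquiv.symm_apply_eq]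
      rfl
    rw [this, Submodule.liftQ_apply]

/-- `T⁰(P, M) ≃ Hom(Ω_{B/A}, M)`. -/
def T0equivHomKaehler : (Ω[B⁄A] →ₗ[B] M) ≃ₗ[B] T0 P M :=
  LinearEquiv.ofBijective (homKaehlerToT0 P M) (homKaehlerToT0_bijective P M)

end Groth.Agent.Helper18.CotTLib

end
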