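import Groth.Agent.Lib.Helper18.CotT.Exact

/-!
# `T¹` is `H¹(Hom(NL, M))` and is independent of the presentation
-/

set_option autoImplicit false

open TensorProduct

noncomputable section

namespace Groth.Agent.Helper18.CotTLib

open CotT Algebra.Extension

universe u v w t m w₁ w₂

variable {A : Type u} {B : Type v} [CommRing A] [CommRing B] [Algebra A B]

section H1

variable (M : Type m) [AddCommGroup M] [Module B M]

/-- `H¹` of the dual of the naive cotangent complex of an extension. -/
abbrev H1 (E : Algebra.Extension.{w₁} A B) : Type _ :=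
  (E.Cotangent →ₗ[B] M) ⧸ LinearMap.range (LinearMap.lcomp B M E.cotangentComplex)

variable {E : Algebra.Extension.{w₁} A B} {E' : Algebra.Extension.{w₂} A B}

/-- The map on `H¹` induced by a morphism of extensions. -/
def pullH1 (f : E.Hom E') : H1 M E' →ₗ[B] H1 M E :=
  Submodule.mapQ _ _ (LinearMap.lcomp B M (Cotangent.map f)) (by
    rintro _ ⟨χ, rfl⟩
    refine ⟨χ ∘ₗ CotangentSpace.map f, ?_⟩
    ext x
    simp only [LinearMap.lcomp_apply', LinearMap.coe_comp, Function.comp_apply]
    rw [CotangentSpace.map_cotangentComplex])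

lemma pullH1_mk (f : E.Hom E') (ψ : E'.Cotangent →ₗ[B] M) :
    pullH1 M f (Submodule.Quotient.mk ψ) = Submodule.Quotient.mk (ψ ∘ₗ Cotangent.map f) := rfl

lemma pullH1_eq (f g : E.Hom E') : pullH1 M f = pullH1 M g := by
  refine LinearMap.ext fun x => ?_
  obtain ⟨ψ, rfl⟩ := Submodule.Quotient.mk_surjective _ x
  rw [pullH1_mk, pullH1_mk, Submodule.Quotient.eq]
  refine ⟨ψ ∘ₗ f.sub g, ?_⟩
  rw [LinearMap.lcomp_apply', LinearMap.comp_assoc, ← Cotangent.map_sub_map, LinearMap.comp_sub]

lemma pullH1_id : pullH1 M (Hom.id E) = LinearMap.id := by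
  refine LinearMap.ext fun x => ?_
  obtain ⟨ψ, rfl⟩ := Submodule.Quotient.mk_surjective _ x
  rw [pullH1_mk, Cotangent.map_id, LinearMap.comp_id, LinearMap.id_apply]

lemma pullH1_comp (f : E.Hom E') (g : E'.Hom E) :
    pullH1 M (g.comp f) = pullH1 M f ∘ₗ pullH1 M g := by
  refine LinearMap.ext fun x => ?_
  obtain ⟨ψ, rfl⟩ := Submodule.Quotient.mk_surjective _ x
  rw [LinearMap.comp_apply, pullH1_mk, pullH1_mk, pullH1_mk, Cotangent.map_comp]
  rfl

/-- `H¹` is independent of the extension. -/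
def H1equiv (f : E.Hom E') (g : E'.Hom E) : H1 M E ≃ₗ[B] H1 M E' :=
  LinearEquiv.ofLinearMap (pullH1 M g) (pullH1 M f)
    (by rw [← pullH1_comp, pullH1_eq M _ (Hom.id E'), pullH1_id])
    (by rw [← pullH1_comp, pullH1_eq M _ (Hom.id E), pullH1_id])

end H1


section T1

variable {ι : Type w} {σ : Type t} (P : Algebra.Presentation A B ι σ)
variable (M : Type m) [AddCommGroup M] [Module B M]

lemma homToT1_apply (ψ : P.toExtension.Cotangent →ₗ[B] M) :
    homToT1 P M ψ = Submodule.Quotient.mk ⟨ψ ∘ₗ toCot P, by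
      rw [LinearMap.mem_ker, d2Star_apply, LinearMap.comp_assoc, toCot_comp_d2,
        LinearMap.comp_zero]⟩ := rfl

lemma homToT1_surjective : Function.Surjective (homToT1 P M) := by
  intro x
  obtain ⟨c, rfl⟩ := Submodule.Quotient.mk_surjective _ x
  have hc : (c : L1 P →ₗ[B] M) ∘ₗ d2 P = 0 := by
    have := c.2
    rw [LinearMap.mem_ker, d2Star_apply] at this
    exact this
  have hker : LinearMap.ker (toCot P) ≤ LinearMap.ker (c : L1 P →ₗ[B] M) := by
    rw [← range_d2_eq_ker_toCot]
    rintro _ ⟨z, rfl⟩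
    exact congrArg (fun k => k z) hc
  have hsurj := toCot_surjective P
  let ψ : P.toExtension.Cotangent →ₗ[B] M :=
    (Submodule.liftQ _ (c : L1 P →ₗ[B] M) hker) ∘ₗ
      ((toCot P).quotKerEquivOfSurjective hsurj).symm.toLinearMap
  refine ⟨ψ, ?_⟩
  rw [homToT1_apply]
  congr 1
  apply Subtype.ext
  ext x
  simp only [ψ, LinearMap.coe_comp, LinearEquiv.coe_coe, Function.comp_apply]
  have : ((toCot P).quotKerEquivOfSurjective hsurj).symm (toCot P x) = Submodule.Quotient.mk x := by
    rw [LinearEquiv.symm_apply_eq]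
    rfl
  rw [this, Submodule.liftQ_apply]

lemma ker_homToT1 :
    LinearMap.ker (homToT1 P M) =
      LinearMap.range (LinearMap.lcomp B M P.toExtension.cotangentComplex) := by
  ext ψ
  rw [LinearMap.mem_ker, homToT1_apply, Submodule.Quotient.mk_eq_zero, Submodule.mem_comap,
    LinearMap.mem_range, LinearMap.mem_range]
  constructor
  · rintro ⟨χ, hχ⟩
    refine ⟨χ, ?_⟩
    ext x
    obtain ⟨y, rfl⟩ := toCot_surjective P x
    have := congrArg (fun k => k y) hχ
    exact this
  · rintro ⟨χ, rfl⟩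
    exact ⟨χ, rfl⟩

/-- `T¹(P, M) ≃ H¹(Hom(NL_P, M))`. -/
def T1equivH1 : T1 P M ≃ₗ[B] H1 M P.toExtension :=
  ((homToT1 P M).quotKerEquivOfSurjective (homToT1_surjective P M)).symm.trans
    (Submodule.quotEquivOfEq _ _ (ker_homToT1 P M))

end T1

section Indep

variable {ι : Type w} {σ : Type t} (P : Algebra.Presentation A B ι σ)
variable {ι' : Type w₁} {σ' : Type w₂} (P' : Algebra.Presentation A B ι' σ')
variable (M : Type m) [AddCommGroup M] [Module B M]

/-- `T¹` is independent of the presentation. -/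
def T1equiv : T1 P M ≃ₗ[B] T1 P' M :=
  (T1equivH1 P M).trans
    ((H1equiv M (P.toGenerators.defaultHom P'.toGenerators).toExtensionHom
      (P'.toGenerators.defaultHom P.toGenerators).toExtensionHom).trans (T1equivH1 P' M).symm)

end Indep

end Groth.Agent.Helper18.CotTLib

end
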