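import Groth.Agent.Lib.Helper18.CotT.GenPoly

/-!
# Comparing `T²` of a presentation with `T²` over a larger polynomial ring
-/

set_option autoImplicit false

open TensorProduct MvPolynomial

noncomputable section

namespace Groth.Agent.Helper18.GenT

universe u v w t k m

section Shift

variable {R : Type u} [CommRing R] {κ : Type k}

/-- The translation `X y ↦ X y - C (r y)`. -/
def shiftHom (r : κ → R) : MvPolynomial κ R →ₐ[R] MvPolynomial κ R :=
  aeval (fun y => X y - C (r y))

@[simp] lemma shiftHom_X (r : κ → R) (y : κ) : shiftHom r (X y) = X y - C (r y) := by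
  simp [shiftHom]

lemma shiftHom_comp (r : κ → R) :
    (shiftHom (fun y => - r y)).comp (shiftHom r) = AlgHom.id R _ := by
  apply MvPolynomial.algHom_ext
  intro y
  simp [shiftHom]

/-- The translation automorphism. -/
def shiftEquiv (r : κ → R) : MvPolynomial κ R ≃ₐ[R] MvPolynomial κ R :=
  AlgEquiv.ofAlgHom (shiftHom r) (shiftHom (fun y => - r y))
    (by
      have := shiftHom_comp (fun y => - r y)
      simpa using this)
    (shiftHom_comp r)

@[simp] lemma shiftEquiv_X (r : κ → R) (y : κ) : shiftEquiv r (X y) = X y - C (r y) :=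
  shiftHom_X r y

@[simp] lemma shiftEquiv_C (r : κ → R) (a : R) : shiftEquiv r (C a) = C a :=
  (shiftEquiv r).commutes a

end Shift


section LemmaE

variable {A : Type u} {B : Type v} {ι : Type w} {σ : Type t}
variable [CommRing A] [CommRing B] [Algebra A B]

/-- `T²` over `A[ι]` agrees with `T²` computed over the polynomial ring in the variables `ι`
together with extra variables `κ` with arbitrary values in `B`, for any generating
families of relations. -/
theorem nonempty_gT2_equiv_sum [Algebra (MvPolynomial ι A) B] (val : ι → B)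
    (hCι : ∀ a, algebraMap (MvPolynomial ι A) B (C a) = algebraMap A B a)
    (hXι : ∀ i, algebraMap (MvPolynomial ι A) B (X i) = val i)
    (hsurj : Function.Surjective (algebraMap (MvPolynomial ι A) B))
    (rel : σ → MvPolynomial ι A) (hrel : ∀ s, algebraMap (MvPolynomial ι A) B (rel s) = 0)
    (hker : Ideal.span (Set.range rel) = RingHom.ker (algebraMap (MvPolynomial ι A) B))
    {κ : Type k} (g : κ → B)
    [Algebra (MvPolynomial (κ ⊕ ι) A) B]
    (hC₃ : ∀ a, algebraMap (MvPolynomial (κ ⊕ ι) A) B (C a) = algebraMap A B a)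
    (hX₃ : ∀ c, algebraMap (MvPolynomial (κ ⊕ ι) A) B (X c) = Sum.elim g val c)
    {σ₃ : Type*} (rel₃ : σ₃ → MvPolynomial (κ ⊕ ι) A)
    (hrel₃ : ∀ s, algebraMap (MvPolynomial (κ ⊕ ι) A) B (rel₃ s) = 0)
    (hker₃ : Ideal.span (Set.range rel₃) = RingHom.ker (algebraMap (MvPolynomial (κ ⊕ ι) A) B))
    (M : Type m) [AddCommGroup M] [Module B M] :
    Nonempty (gT2 rel hrel M ≃ₗ[B] gT2 rel₃ hrel₃ M) := by
  classical
  letI : Algebra (MvPolynomial κ (MvPolynomial ι A)) B :=
    (aeval (fun _ : κ => (0 : B)) :
      MvPolynomial κ (MvPolynomial ι A) →ₐ[MvPolynomial ι A] B).toRingHom.toAlgebra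
  have hC : ∀ r, algebraMap (MvPolynomial κ (MvPolynomial ι A)) B (C r) =
      algebraMap (MvPolynomial ι A) B r := fun r =>
    aeval_C (fun _ : κ => (0 : B)) r
  have hX : ∀ y : κ, algebraMap (MvPolynomial κ (MvPolynomial ι A)) B (X y) = 0 := fun y =>
    aeval_X (fun _ : κ => (0 : B)) y
  -- step 1: adjoin variables mapping to zero
  let e₁ : gT2 rel hrel M ≃ₗ[B]
      gT2 (relPoly (κ := κ) rel) (hrelPoly _ hC hX hrel) M :=
    T2equivPoly rel hC hX hrel M
  -- lifts of the values
  choose r hr using fun y : κ => hsurj (g y)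
  -- step 2: ring isomorphism
  let e : MvPolynomial κ (MvPolynomial ι A) ≃+* MvPolynomial (κ ⊕ ι) A :=
    ((shiftEquiv r).toRingEquiv).trans (sumRingEquiv A κ ι).symm
  have hbase : ∀ x : MvPolynomial ι A,
      algebraMap (MvPolynomial (κ ⊕ ι) A) B ((sumRingEquiv A κ ι).symm (C x)) =
        algebraMap (MvPolynomial ι A) B x := by
    intro x
    have : (algebraMap (MvPolynomial (κ ⊕ ι) A) B).comp
        (((sumRingEquiv A κ ι).symm : MvPolynomial κ (MvPolynomial ι A) →+* _).comp
          (C : MvPolynomial ι A →+* MvPolynomial κ (MvPolynomial ι A))) =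
        (algebraMap (MvPolynomial ι A) B) := by
      apply MvPolynomial.ringHom_ext
      · intro a
        simp only [RingHom.comp_apply, RingEquiv.coe_toRingHom]
        rw [sumRingEquiv_symm_C_C, hC₃, hCι]
      · intro i
        simp only [RingHom.comp_apply, RingEquiv.coe_toRingHom]
        rw [sumRingEquiv_symm_C_X, hX₃, Sum.elim_inr, hXι]
    exact congrArg (fun f : MvPolynomial ι A →+* B => f x) this
  have he : ∀ p, algebraMap (MvPolynomial (κ ⊕ ι) A) B (e p) =
      algebraMap (MvPolynomial κ (MvPolynomial ι A)) B p := by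
    intro p
    have : (algebraMap (MvPolynomial (κ ⊕ ι) A) B).comp (e : _ →+* _) =
        algebraMap (MvPolynomial κ (MvPolynomial ι A)) B := by
      apply MvPolynomial.ringHom_ext
      · intro x
        simp only [RingHom.comp_apply, RingEquiv.coe_toRingHom]
        rw [hC]
        change algebraMap (MvPolynomial (κ ⊕ ι) A) B
          ((sumRingEquiv A κ ι).symm (shiftEquiv r (C x))) = _
        rw [shiftEquiv_C]
        exact hbase x
      · intro y
        simp only [RingHom.comp_apply, RingEquiv.coe_toRingHom]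
        rw [hX]
        change algebraMap (MvPolynomial (κ ⊕ ι) A) B
          ((sumRingEquiv A κ ι).symm (shiftEquiv r (X y))) = _
        rw [shiftEquiv_X, map_sub, map_sub, sumRingEquiv_symm_X, hbase (r y), hX₃, Sum.elim_inl, hr,
          sub_self]
    exact congrArg (fun f : MvPolynomial κ (MvPolynomial ι A) →+* B => f p) this
  obtain ⟨e₂⟩ := nonempty_T2equiv_of_ringEquiv (hrelPoly _ hC hX hrel) hrel₃ M e he
    (span_relPoly rel hC hX hrel hker) hker₃
  exact ⟨e₁.trans e₂⟩

end LemmaE

end Groth.Agent.Helper18.GenT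

end
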