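import Groth.Agent.Lib.Helper18.CotT.T1
import Groth.Prelude.Def_Exal

/-!
# Extensions of `B` by `M` and `H¹(Hom(NL, M))`: the cocycle of a lift
-/

set_option autoImplicit false

noncomputable section

namespace Groth.Agent.Helper18.ExalT1

open Exal Algebra.Extension TensorProduct

universe u v w

variable {A : Type u} {B M : Type v} [CommRing A] [CommRing B] [Algebra A B] [AddCommGroup M]
  [Module B M]
variable (E : Algebra.Extension.{w} A B) [Module E.Ring M] [IsScalarTower E.Ring B M]

/-- Lift an `E.Ring`-linear map `I → M` to a `B`-linear map `I/I² → M`. -/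
def cotLift (f : E.ker →ₗ[E.Ring] M) : E.Cotangent →ₗ[B] M where
  toFun x := Ideal.Cotangent.lift f (fun x y => by
      have h1 : x * y = (x : E.Ring) • y := Subtype.ext rfl
      rw [h1, map_smul, ← algebraMap_smul B (x : E.Ring) (f y)]
      have h2 : algebraMap E.Ring B (x : E.Ring) = 0 := x.2
      rw [h2, zero_smul]) x.val
  map_add' x y := by
    rw [Cotangent.val_add, map_add]
  map_smul' b x := by
    rw [Cotangent.val_smul, map_smul, RingHom.id_apply, ← algebraMap_smul B (E.σ b), E.algebraMap_σ]

@[simp] lemma cotLift_mk (f : E.ker →ₗ[E.Ring] M) (x : E.ker) :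
    cotLift E f (Cotangent.mk x) = f x := rfl

variable {E}

/-- A lift of the extension `E.Ring → B` to the middle ring of `X`. -/
structure Lift (X : Ext A B M) where
  /-- the algebra map -/
  g : E.Ring →ₐ[A] X.E
  proj_g : ∀ r, X.proj (g r) = algebraMap E.Ring B r

namespace Lift

variable {X : Ext A B M} (l : Lift (E := E) X)

lemma proj_g_ker (x : E.ker) : X.proj (l.g x) = 0 := by
  rw [l.proj_g]
  exact x.2

lemma proj_incl (X : Ext A B M) (z : M) : X.proj (X.incl z) = 0 :=
  (X.isExtension.exact _).2 ⟨z, rfl⟩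

/-- The `E.Ring`-linear map `I → M` of a lift. -/
def γ₀ : E.ker →ₗ[E.Ring] M where
  toFun x := X.kerLift (l.g x) (l.proj_g_ker x)
  map_add' x y := by
    apply X.isExtension.incl_injective
    rw [map_add, Ext.incl_kerLift, Ext.incl_kerLift, Ext.incl_kerLift]
    simp
  map_smul' r x := by
    apply X.isExtension.incl_injective
    rw [Ext.incl_kerLift, RingHom.id_apply]
    have h1 : r • X.kerLift (l.g x) (l.proj_g_ker x) =
        X.proj (l.g r) • X.kerLift (l.g x) (l.proj_g_ker x) := by
      rw [l.proj_g, algebraMap_smul]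
    rw [h1, ← X.isExtension.mul_incl, Ext.incl_kerLift]
    simp

lemma incl_γ₀ (x : E.ker) : X.incl (l.γ₀ x) = l.g x := Ext.incl_kerLift X _ (l.proj_g_ker x)

/-- The cocycle `I/I² → M` of a lift. -/
def cocycle : E.Cotangent →ₗ[B] M := cotLift E l.γ₀

lemma incl_cocycle_mk (x : E.ker) : X.incl (l.cocycle (Cotangent.mk x)) = l.g x := by
  rw [cocycle, cotLift_mk, incl_γ₀]

lemma cocycle_eq_iff (φ : E.Cotangent →ₗ[B] M) :
    l.cocycle = φ ↔ ∀ x : E.ker, X.incl (φ (Cotangent.mk x)) = l.g x := by
  constructor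
  · rintro rfl x
    exact l.incl_cocycle_mk x
  · intro h
    refine LinearMap.ext fun y => ?_
    obtain ⟨x, rfl⟩ := Cotangent.mk_surjective y
    apply X.isExtension.incl_injective
    rw [incl_cocycle_mk, h]

end Lift

end Groth.Agent.Helper18.ExalT1

end
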