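import Groth.Agent.Lib.Helper18.CotT.Exal1

/-!
# Extensions of `B` by `M` and `H¹(Hom(NL, M))`: independence of the lift, injectivity
-/

set_option autoImplicit false

noncomputable section

namespace Groth.Agent.Helper18.ExalT1

open Exal Algebra.Extension TensorProduct CotTLib

universe u v w

variable {A : Type u} {B M : Type v} [CommRing A] [CommRing B] [Algebra A B] [AddCommGroup M]
  [Module B M]
variable {E : Algebra.Extension.{w} A B} [Module E.Ring M] [IsScalarTower E.Ring B M]
variable [Module A M] [IsScalarTower A B M]

lemma isScalarTower_A_Ring : IsScalarTower A E.Ring M := ⟨fun a r m => by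
  have h1 : (a • r) • m = algebraMap E.Ring B (a • r) • m := (algebraMap_smul B (a • r) m).symm
  have h2 : r • m = algebraMap E.Ring B r • m := (algebraMap_smul B r m).symm
  have h3 : a • (algebraMap E.Ring B r • m) = algebraMap A B a • (algebraMap E.Ring B r • m) :=
    (algebraMap_smul B a _).symm
  rw [h1, h2, h3, Algebra.smul_def, map_mul, ← IsScalarTower.algebraMap_apply, mul_smul]⟩

attribute [local instance] isScalarTower_A_Ring

variable {X Y : Ext A B M}

omit [Module A M] [IsScalarTower A B M] in
lemma incl_mul_incl (X : Ext A B M) (z z' : M) : X.incl z * X.incl z' = 0 := by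
  rw [X.isExtension.mul_incl, Lift.proj_incl, zero_smul, map_zero]

lemma incl_smul_A (X : Ext A B M) (a : A) (z : M) : X.incl (a • z) = a • X.incl z := by
  rw [Algebra.smul_def, X.isExtension.mul_incl, AlgHom.commutes, algebraMap_smul]

namespace Lift

/-- The difference of two lifts, as a function to `M`. -/
def diffFun (l l' : Lift (E := E) X) (r : E.Ring) : M :=
  X.kerLift (l.g r - l'.g r) (by rw [map_sub, l.proj_g, l'.proj_g, sub_self])

omit [IsScalarTower E.Ring B M] [Module A M] [IsScalarTower A B M] in
lemma incl_diffFun (l l' : Lift (E := E) X) (r : E.Ring) :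
    X.incl (diffFun l l' r) = l.g r - l'.g r := Ext.incl_kerLift X _ _

/-- The derivation measuring the difference of two lifts. -/
def diffDer (l l' : Lift (E := E) X) : Derivation A E.Ring M :=
  Derivation.mk'
    { toFun := diffFun l l'
      map_add' := fun r s => by
        apply X.isExtension.incl_injective
        rw [map_add, incl_diffFun, incl_diffFun, incl_diffFun, map_add, map_add]
        ring
      map_smul' := fun a r => by
        apply X.isExtension.incl_injective
        rw [incl_diffFun, RingHom.id_apply, incl_smul_A, incl_diffFun, map_smul, map_smul,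
          smul_sub] }
    (fun r s => by
      apply X.isExtension.incl_injective
      show X.incl (diffFun l l' (r * s)) = X.incl (r • diffFun l l' s + s • diffFun l l' r)
      rw [incl_diffFun, map_add, ← algebraMap_smul B r, ← algebraMap_smul B s, ← l.proj_g r,
        ← l'.proj_g s, ← X.isExtension.mul_incl, ← X.isExtension.mul_incl,
        incl_diffFun, incl_diffFun, map_mul, map_mul]
      ring)

lemma incl_diffDer (l l' : Lift (E := E) X) (r : E.Ring) :
    X.incl (diffDer l l' r) = l.g r - l'.g r := incl_diffFun l l' r

/-- The cochain bounding the difference of the cocycles of two lifts. -/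
def diffCochain (l l' : Lift (E := E) X) : E.CotangentSpace →ₗ[B] M :=
  (diffDer l l').liftKaehlerDifferential.liftBaseChange B

lemma cocycle_sub_cocycle (l l' : Lift (E := E) X) :
    l.cocycle - l'.cocycle = diffCochain l l' ∘ₗ E.cotangentComplex := by
  refine LinearMap.ext fun y => ?_
  obtain ⟨x, rfl⟩ := Cotangent.mk_surjective y
  apply X.isExtension.incl_injective
  rw [LinearMap.sub_apply, map_sub, incl_cocycle_mk, incl_cocycle_mk, LinearMap.comp_apply,
    cotangentComplex_mk, diffCochain, LinearMap.liftBaseChange_tmul, one_smul,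
    Derivation.liftKaehlerDifferential_comp_D, incl_diffDer]

/-- The class in `H¹` of an extension with a lift. -/
def cls (l : Lift (E := E) X) : H1 M E := Submodule.Quotient.mk l.cocycle

lemma cls_eq (l l' : Lift (E := E) X) : l.cls = l'.cls := by
  rw [cls, cls, Submodule.Quotient.eq]
  exact ⟨diffCochain l l', (cocycle_sub_cocycle l l').symm⟩

/-- Transport a lift along an equivalence of extensions. -/
def ofEquiv (l : Lift (E := E) X) (e : Ext.Equiv X Y) : Lift (E := E) Y where
  g := (e.toAlgEquiv : X.E →ₐ[A] Y.E).comp l.g
  proj_g r := by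
    rw [AlgHom.comp_apply]
    exact (e.proj_apply _).trans (l.proj_g r)

omit [Module A M] [IsScalarTower A B M] in
lemma cocycle_ofEquiv (l : Lift (E := E) X) (e : Ext.Equiv X Y) :
    (l.ofEquiv e).cocycle = l.cocycle := by
  rw [cocycle_eq_iff]
  intro x
  show Y.incl (l.cocycle (Cotangent.mk x)) = e.toAlgEquiv (l.g x)
  rw [← e.apply_incl, incl_cocycle_mk]

lemma cls_eq_of_equiv (l : Lift (E := E) X) (l' : Lift (E := E) Y) (e : Ext.Equiv X Y) :
    l.cls = l'.cls := by
  rw [← cls_eq (l.ofEquiv e) l', cls, cls, cocycle_ofEquiv]

/-- Modify a lift by a cochain. -/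
def addCochain (l : Lift (E := E) X) (χ : E.CotangentSpace →ₗ[B] M) : Lift (E := E) X where
  g :=
    { toFun := fun r => l.g r + X.incl (χ ((1 : B) ⊗ₜ[E.Ring] KaehlerDifferential.D A E.Ring r))
      map_one' := by
        rw [map_one, Derivation.map_one_eq_zero, tmul_zero, map_zero, map_zero, add_zero]
      map_mul' := fun r s => by
        rw [map_mul, Derivation.leibniz, tmul_add, tmul_smul, tmul_smul, map_add,
          ← algebraMap_smul B r, ← algebraMap_smul B s, map_smul, map_smul, map_add, ← l.proj_g r,
          ← l.proj_g s, ← X.isExtension.mul_incl, ← X.isExtension.mul_incl]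
        have h0 := incl_mul_incl X (χ ((1 : B) ⊗ₜ[E.Ring] KaehlerDifferential.D A E.Ring r))
          (χ ((1 : B) ⊗ₜ[E.Ring] KaehlerDifferential.D A E.Ring s))
        linear_combination (-1 : X.E) * h0
      map_zero' := by
        rw [map_zero, map_zero, tmul_zero, map_zero, map_zero, add_zero]
      map_add' := fun r s => by
        rw [map_add, map_add, tmul_add, map_add, map_add]
        ring
      commutes' := fun a => by
        rw [AlgHom.commutes, Derivation.map_algebraMap, tmul_zero, map_zero, map_zero, add_zero] }
  proj_g r := by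
    show X.proj (l.g r + X.incl _) = _
    rw [map_add, proj_incl, add_zero, l.proj_g]

lemma addCochain_g (l : Lift (E := E) X) (χ : E.CotangentSpace →ₗ[B] M) (r : E.Ring) :
    (l.addCochain χ).g r =
      l.g r + X.incl (χ ((1 : B) ⊗ₜ[E.Ring] KaehlerDifferential.D A E.Ring r)) := rfl

lemma cocycle_addCochain (l : Lift (E := E) X) (χ : E.CotangentSpace →ₗ[B] M) :
    (l.addCochain χ).cocycle = l.cocycle + χ ∘ₗ E.cotangentComplex := by
  rw [cocycle_eq_iff]
  intro x
  rw [addCochain_g, LinearMap.add_apply, map_add, incl_cocycle_mk, LinearMap.comp_apply,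
    cotangentComplex_mk]

end Lift

end Groth.Agent.Helper18.ExalT1

end
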