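import Groth.Agent.Lib.Helper18.CotT.Exal2

/-!
# Extensions with the same cocycle are equivalent
-/

set_option autoImplicit false

noncomputable section

namespace Groth.Agent.Helper18.ExalT1

open Exal Algebra.Extension TensorProduct CotTLib

universe u v w

variable {A : Type u} {B M : Type v} [CommRing A] [CommRing B] [Algebra A B] [AddCommGroup M]
  [Module B M]
variable {E : Algebra.Extension.{w} A B} [Module E.Ring M] [IsScalarTower E.Ring B M]

variable {X Y : Ext A B M}

namespace Lift

/-- The `M`-component of an element of `X.E` relative to a lift. -/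
def comp (l : Lift (E := E) X) (x : X.E) : M :=
  X.kerLift (x - l.g (E.σ (X.proj x))) (by rw [map_sub, l.proj_g, E.algebraMap_σ, sub_self])

omit [IsScalarTower E.Ring B M] in
lemma incl_comp (l : Lift (E := E) X) (x : X.E) :
    X.incl (l.comp x) = x - l.g (E.σ (X.proj x)) := Ext.incl_kerLift X _ _

omit [IsScalarTower E.Ring B M] in
lemma rep (l : Lift (E := E) X) (x : X.E) :
    x = l.g (E.σ (X.proj x)) + X.incl (l.comp x) := by
  rw [incl_comp]; ring

/-- Transfer along two lifts. -/
def transfer (l : Lift (E := E) X) (l' : Lift (E := E) Y) (x : X.E) : Y.E :=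
  l'.g (E.σ (X.proj x)) + Y.incl (l.comp x)

lemma transfer_apply (l : Lift (E := E) X) (l' : Lift (E := E) Y) (h : l.cocycle = l'.cocycle)
    (r : E.Ring) (z : M) : transfer l l' (l.g r + X.incl z) = l'.g r + Y.incl z := by
  have hproj : X.proj (l.g r + X.incl z) = algebraMap E.Ring B r := by
    rw [map_add, proj_incl, add_zero, l.proj_g]
  set r₀ := E.σ (algebraMap E.Ring B r) with hr₀
  have hk : r - r₀ ∈ E.ker := by
    show algebraMap E.Ring B (r - r₀) = 0
    rw [map_sub, hr₀, E.algebraMap_σ, sub_self]
  have hcomp : l.comp (l.g r + X.incl z) = l.cocycle (Cotangent.mk ⟨r - r₀, hk⟩) + z := by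
    apply X.isExtension.incl_injective
    rw [incl_comp, hproj, map_add, incl_cocycle_mk, map_sub]
    ring
  rw [transfer, hproj, hcomp, map_add, h, incl_cocycle_mk, map_sub]
  ring

/-- Two extensions with lifts having the same cocycle are equivalent. -/
def equivOfCocycleEq (l : Lift (E := E) X) (l' : Lift (E := E) Y) (h : l.cocycle = l'.cocycle) :
    Ext.Equiv X Y where
  toAlgEquiv :=
    { toFun := transfer l l'
      invFun := transfer l' l
      left_inv := fun x => by
        conv_lhs => rw [l.rep x]
        rw [transfer_apply l l' h, transfer_apply l' l h.symm, ← l.rep x]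
      right_inv := fun y => by
        conv_lhs => rw [l'.rep y]
        rw [transfer_apply l' l h.symm, transfer_apply l l' h, ← l'.rep y]
      map_mul' := fun x y => by
        have hxy : x * y = l.g (E.σ (X.proj x) * E.σ (X.proj y)) +
            X.incl (X.proj (l.g (E.σ (X.proj x))) • l.comp y +
              X.proj (l.g (E.σ (X.proj y))) • l.comp x) := by
          rw [map_add, ← X.isExtension.mul_incl, ← X.isExtension.mul_incl, map_mul]
          conv_lhs => rw [l.rep x, l.rep y]
          have h0 := incl_mul_incl X (l.comp x) (l.comp y)
          linear_combination h0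
        rw [hxy, transfer_apply l l' h]
        conv_rhs => rw [l.rep x, l.rep y, transfer_apply l l' h, transfer_apply l l' h]
        rw [map_add, l.proj_g, l.proj_g, ← l'.proj_g (E.σ (X.proj x)), ← l'.proj_g (E.σ (X.proj y)),
          ← Y.isExtension.mul_incl, ← Y.isExtension.mul_incl, map_mul]
        have h0 := incl_mul_incl Y (l.comp x) (l.comp y)
        linear_combination (-1 : Y.E) * h0
      map_add' := fun x y => by
        have hxy : x + y = l.g (E.σ (X.proj x) + E.σ (X.proj y)) +
            X.incl (l.comp x + l.comp y) := by
          rw [map_add, map_add]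
          conv_lhs => rw [l.rep x, l.rep y]
          ring
        rw [hxy, transfer_apply l l' h]
        conv_rhs => rw [l.rep x, l.rep y, transfer_apply l l' h, transfer_apply l l' h]
        rw [map_add, map_add]
        ring
      commutes' := fun a => by
        have ha : algebraMap A X.E a = l.g (algebraMap A E.Ring a) + X.incl 0 := by
          rw [map_zero, add_zero, AlgHom.commutes]
        rw [ha, transfer_apply l l' h, map_zero, add_zero, AlgHom.commutes] }
  proj_apply x := by
    show Y.proj (transfer l l' x) = X.proj x
    rw [transfer, map_add, proj_incl, add_zero, l'.proj_g, E.algebraMap_σ]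
  apply_incl z := by
    show transfer l l' (X.incl z) = Y.incl z
    have hz : X.incl z = l.g 0 + X.incl z := by rw [map_zero, zero_add]
    rw [hz, transfer_apply l l' h, map_zero, zero_add]

variable [Module A M] [IsScalarTower A B M]

/-- Two extensions with lifts having the same class are equivalent. -/
theorem nonempty_equiv_of_cls_eq (l : Lift (E := E) X) (l' : Lift (E := E) Y) (h : l.cls = l'.cls) :
    Nonempty (Ext.Equiv X Y) := by
  rw [cls, cls, Submodule.Quotient.eq] at h
  obtain ⟨χ, hχ⟩ := h
  refine ⟨equivOfCocycleEq l (l'.addCochain χ) ?_⟩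
  rw [cocycle_addCochain]
  have : χ ∘ₗ E.cotangentComplex = l.cocycle - l'.cocycle := hχ
  rw [this]
  abel

end Lift

end Groth.Agent.Helper18.ExalT1

end
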