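import Groth.Agent.Lib.Helper18.CotT.Exal3

/-!
# The pushout extension attached to a cocycle; the bijection `Exalcom ≃ H¹`
-/

set_option autoImplicit false

noncomputable section

namespace Groth.Agent.Helper18.ExalT1

open Exal Algebra.Extension TensorProduct CotTLib

universe u

variable {A B M : Type u} [CommRing A] [CommRing B] [Algebra A B] [AddCommGroup M] [Module B M]
variable (E : Algebra.Extension.{u} A B) [Module E.Ring M] [IsScalarTower E.Ring B M]

attribute [local instance] Exal.opModule Exal.isCentralScalar_opModule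

section Pushout

variable (φ : E.Cotangent →ₗ[B] M)

/-- `x ↦ (x, -φ x)`. -/
def pushElem (x : E.ker) : TrivSqZeroExt E.Ring M :=
  TrivSqZeroExt.inl (x : E.Ring) - TrivSqZeroExt.inr (φ (Cotangent.mk x))

lemma ker_smul (x : E.ker) (m : M) : (x : E.Ring) • m = 0 := by
  rw [← algebraMap_smul B (x : E.Ring) m]
  have : algebraMap E.Ring B (x : E.Ring) = 0 := x.2
  rw [this, zero_smul]

/-- The ideal `{(x, -φ x) | x ∈ I}` of `R ⊕ M`. -/
def pushIdeal : Ideal (TrivSqZeroExt E.Ring M) where
  carrier := Set.range (pushElem E φ)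
  add_mem' := by
    rintro _ _ ⟨x, rfl⟩ ⟨y, rfl⟩
    refine ⟨x + y, ?_⟩
    simp only [pushElem, map_add, Submodule.coe_add, TrivSqZeroExt.inl_add, TrivSqZeroExt.inr_add]
    abel
  zero_mem' := ⟨0, by simp [pushElem]⟩
  smul_mem' := by
    rintro c _ ⟨x, rfl⟩
    refine ⟨c.fst • x, ?_⟩
    refine TrivSqZeroExt.ext ?_ ?_
    · simp [pushElem]
    · have h1 : φ (Cotangent.mk (c.fst • x)) = c.fst • φ (Cotangent.mk x) := by
        rw [map_smul, ← algebraMap_smul B c.fst, map_smul, algebraMap_smul]
      simp only [pushElem, TrivSqZeroExt.snd_sub, TrivSqZeroExt.snd_inl, TrivSqZeroExt.snd_inr,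
        zero_sub, smul_eq_mul, TrivSqZeroExt.snd_mul, TrivSqZeroExt.fst_sub, TrivSqZeroExt.fst_inl,
        TrivSqZeroExt.fst_inr, sub_zero, h1, smul_neg]
      have h2 : MulOpposite.op (x : E.Ring) • c.snd = 0 := ker_smul E x c.snd
      rw [h2, add_zero]

lemma mem_pushIdeal (t : TrivSqZeroExt E.Ring M) :
    t ∈ pushIdeal E φ ↔ ∃ x : E.ker, pushElem E φ x = t := Iff.rfl

/-- `fst` as a ring homomorphism. -/
def fstRingHom : TrivSqZeroExt E.Ring M →+* E.Ring where
  toFun := TrivSqZeroExt.fst
  map_one' := TrivSqZeroExt.fst_one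
  map_mul' := TrivSqZeroExt.fst_mul
  map_zero' := TrivSqZeroExt.fst_zero
  map_add' := TrivSqZeroExt.fst_add

/-- The middle ring of the pushout extension. -/
abbrev PushRing : Type u := TrivSqZeroExt E.Ring M ⧸ pushIdeal E φ

instance pushAlgebra : Algebra A (PushRing E φ) :=
  ((Ideal.Quotient.mk (pushIdeal E φ)).comp
    ((TrivSqZeroExt.inlHom E.Ring M).comp (algebraMap A E.Ring))).toAlgebra

lemma pushAlgebra_algebraMap (a : A) : algebraMap A (PushRing E φ) a =
    Ideal.Quotient.mk (pushIdeal E φ) (TrivSqZeroExt.inl (algebraMap A E.Ring a)) := rfl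

/-- The projection of the pushout extension, as a ring hom. -/
def pushProjRing : PushRing E φ →+* B :=
  Ideal.Quotient.lift (pushIdeal E φ) ((algebraMap E.Ring B).comp (fstRingHom E)) (by
    rintro _ ⟨x, rfl⟩
    show algebraMap E.Ring B (TrivSqZeroExt.fst (pushElem E φ x)) = 0
    simp only [pushElem, TrivSqZeroExt.fst_sub, TrivSqZeroExt.fst_inl, TrivSqZeroExt.fst_inr,
      sub_zero]
    exact x.2)

@[simp] lemma pushProjRing_mk (t : TrivSqZeroExt E.Ring M) :
    pushProjRing E φ (Ideal.Quotient.mk _ t) = algebraMap E.Ring B t.fst := rfl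

/-- The projection of the pushout extension. -/
def pushProj : PushRing E φ →ₐ[A] B :=
  { pushProjRing E φ with
    commutes' := fun a => by
      show pushProjRing E φ (algebraMap A (PushRing E φ) a) = _
      rw [pushAlgebra_algebraMap, pushProjRing_mk, TrivSqZeroExt.fst_inl,
        ← IsScalarTower.algebraMap_apply] }

@[simp] lemma pushProj_mk (t : TrivSqZeroExt E.Ring M) :
    pushProj E φ (Ideal.Quotient.mk _ t) = algebraMap E.Ring B t.fst := rfl

/-- The inclusion of the pushout extension. -/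
def pushIncl : M →+ PushRing E φ :=
  ((Ideal.Quotient.mk (pushIdeal E φ) : _ →+* _) : _ →+ _).comp
    (TrivSqZeroExt.inrHom E.Ring M).toAddMonoidHom

@[simp] lemma pushIncl_apply (z : M) :
    pushIncl E φ z = Ideal.Quotient.mk (pushIdeal E φ) (TrivSqZeroExt.inr z) := rfl

lemma mk_inl_ker (x : E.ker) :
    Ideal.Quotient.mk (pushIdeal E φ) (TrivSqZeroExt.inl (x : E.Ring)) =
      Ideal.Quotient.mk (pushIdeal E φ) (TrivSqZeroExt.inr (φ (Cotangent.mk x))) := by
  rw [Ideal.Quotient.eq]
  exact ⟨x, rfl⟩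

lemma push_isExtension : IsExtension (pushProj E φ) (pushIncl E φ) where
  proj_surjective b := ⟨Ideal.Quotient.mk _ (TrivSqZeroExt.inl (E.σ b)), by
    rw [pushProj_mk, TrivSqZeroExt.fst_inl, E.algebraMap_σ]⟩
  incl_injective := by
    intro z z' h
    rw [pushIncl_apply, pushIncl_apply, Ideal.Quotient.eq] at h
    obtain ⟨x, hx⟩ := h
    have h1 : (x : E.Ring) = 0 := by
      have := congrArg TrivSqZeroExt.fst hx
      simpa [pushElem] using this
    have h2 : x = 0 := Subtype.ext h1
    have h3 := congrArg TrivSqZeroExt.snd hx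
    rw [h2] at h3
    simp only [pushElem, map_zero, TrivSqZeroExt.inr_zero, sub_zero, TrivSqZeroExt.snd_sub,
      TrivSqZeroExt.snd_inr, ZeroMemClass.coe_zero, TrivSqZeroExt.inl_zero,
      TrivSqZeroExt.snd_zero] at h3
    exact (sub_eq_zero.mp h3.symm)
  exact := by
    intro y
    obtain ⟨t, rfl⟩ := Ideal.Quotient.mk_surjective y
    constructor
    · intro h
      rw [pushProj_mk] at h
      let x : E.ker := ⟨t.fst, h⟩
      refine ⟨t.snd + φ (Cotangent.mk x), ?_⟩
      rw [pushIncl_apply, Ideal.Quotient.eq]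
      refine ⟨-x, ?_⟩
      refine TrivSqZeroExt.ext ?_ ?_
      · simp [pushElem, x]
      · simp [pushElem, x]
    · rintro ⟨z, hz⟩
      rw [← hz, pushIncl_apply, pushProj_mk, TrivSqZeroExt.fst_inr, map_zero]
  mul_incl := by
    intro y z
    obtain ⟨t, rfl⟩ := Ideal.Quotient.mk_surjective y
    rw [pushIncl_apply, pushIncl_apply, ← map_mul, pushProj_mk, algebraMap_smul]
    congr 1
    refine TrivSqZeroExt.ext ?_ ?_
    · simp
    · simp

/-- The pushout extension attached to a cocycle. -/
def pushExt : Ext A B M where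
  E := PushRing E φ
  proj := pushProj E φ
  incl := pushIncl E φ
  isExtension := push_isExtension E φ

/-- The tautological lift of the pushout extension. -/
def pushLift : Lift (E := E) (pushExt E φ) where
  g :=
    { toRingHom := (Ideal.Quotient.mk (pushIdeal E φ)).comp (TrivSqZeroExt.inlHom E.Ring M)
      commutes' := fun _ => rfl }
  proj_g r := by
    show pushProj E φ (Ideal.Quotient.mk _ (TrivSqZeroExt.inl r)) = _
    rw [pushProj_mk, TrivSqZeroExt.fst_inl]

lemma cocycle_pushLift : (pushLift E φ).cocycle = φ := by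
  rw [Lift.cocycle_eq_iff]
  intro x
  exact (mk_inl_ker E φ x).symm

end Pushout

end Groth.Agent.Helper18.ExalT1

end
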