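import Groth.Agent.Lib.Helper18.CotT.Exal4

/-!
# The bijection `Exalcom A B M ≃ H¹(Hom(NL, M)) ≃ T¹`
-/

set_option autoImplicit false

noncomputable section

namespace Groth.Agent.Helper18.ExalT1

open Exal Algebra.Extension TensorProduct CotTLib

universe u w t

variable {A B M : Type u} [CommRing A] [CommRing B] [Algebra A B] [AddCommGroup M] [Module B M]

section Gens

variable {ι : Type w} (G : Algebra.Generators A B ι)

/-- Lifts exist for extensions by polynomial rings. -/
def liftOfGenerators (X : Ext A B M) : Lift (E := G.toExtension) X where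
  g := MvPolynomial.aeval (fun i => (X.isExtension.proj_surjective (G.val i)).choose)
  proj_g r := by
    have h : X.proj.comp (MvPolynomial.aeval
        (fun i => (X.isExtension.proj_surjective (G.val i)).choose)) =
        IsScalarTower.toAlgHom A G.toExtension.Ring B := by
      refine MvPolynomial.algHom_ext fun i => ?_
      rw [AlgHom.comp_apply, MvPolynomial.aeval_X,
        (X.isExtension.proj_surjective (G.val i)).choose_spec]
      show G.val i = algebraMap G.Ring B (MvPolynomial.X i)
      rw [G.algebraMap_apply, MvPolynomial.aeval_X]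
    exact congrArg (fun f => f r) h

end Gens

variable (E : Algebra.Extension.{u} A B) [Module E.Ring M] [IsScalarTower E.Ring B M]

attribute [local instance] Exal.opModule Exal.isCentralScalar_opModule

/-- The lift for the trivial extension. -/
def trivialLift : Lift (E := E) (Ext.trivial A B M) where
  g :=
    { toRingHom := ((TrivSqZeroExt.inlHom B M).comp (algebraMap E.Ring B) :
        E.Ring →+* Ext.TrivCarrier A B M)
      commutes' := fun a => by
        show TrivSqZeroExt.inl (algebraMap E.Ring B (algebraMap A E.Ring a)) =
          TrivSqZeroExt.inl (algebraMap A B a)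
        rw [← IsScalarTower.algebraMap_apply] }
  proj_g _ := rfl

lemma cocycle_trivialLift : (trivialLift (M := M) E).cocycle = 0 := by
  rw [Lift.cocycle_eq_iff]
  intro x
  show (Ext.trivial A B M).incl ((0 : E.Cotangent →ₗ[B] M) (Cotangent.mk x)) =
    TrivSqZeroExt.inl (algebraMap E.Ring B (x : E.Ring))
  have : algebraMap E.Ring B (x : E.Ring) = 0 := x.2
  rw [this, LinearMap.zero_apply, map_zero]
  rfl

variable [Module A M] [IsScalarTower A B M]
variable (hl : ∀ X : Ext A B M, Nonempty (Lift (E := E) X))

/-- The class map `Exalcom A B M → H¹`. -/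
def toH1 : Exalcom A B M → H1 M E :=
  Quotient.lift (fun X => (hl X).some.cls) (fun _ _ ⟨e⟩ => Lift.cls_eq_of_equiv _ _ e)

lemma toH1_cl (X : Ext A B M) (l : Lift (E := E) X) : toH1 E hl X.cl = l.cls :=
  Lift.cls_eq _ _

theorem toH1_injective : Function.Injective (toH1 E hl) := by
  intro a b h
  induction a using Quotient.inductionOn with
  | _ X =>
  induction b using Quotient.inductionOn with
  | _ Y =>
  exact Quotient.sound (Lift.nonempty_equiv_of_cls_eq (hl X).some (hl Y).some h)

theorem toH1_surjective : Function.Surjective (toH1 E hl) := by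
  intro c
  obtain ⟨φ, rfl⟩ := Submodule.Quotient.mk_surjective _ c
  refine ⟨(pushExt E φ).cl, ?_⟩
  rw [toH1_cl E hl _ (pushLift E φ), Lift.cls, cocycle_pushLift]

theorem toH1_zero : toH1 E hl 0 = 0 := by
  show toH1 E hl (Ext.trivial A B M).cl = 0
  rw [toH1_cl E hl _ (trivialLift E), Lift.cls, cocycle_trivialLift]
  rfl

end Groth.Agent.Helper18.ExalT1

end
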