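import Groth.Agent.Lib.Helper18.CotT.GenMor

/-!
# Functoriality and homotopy invariance of `T2pull`
-/

set_option autoImplicit false

open TensorProduct

noncomputable section

namespace Groth.Agent.Helper18.GenT

universe u u' u'' v t t' t'' m

variable {R : Type u} {R' : Type u'} {R'' : Type u''} {B : Type v}
  {σ : Type t} {σ' : Type t'} {σ'' : Type t''}
  [CommRing R] [CommRing R'] [CommRing R''] [CommRing B] [Algebra R B] [Algebra R' B] [Algebra R'' B]
  {rel : σ → R} {rel' : σ' → R'} {rel'' : σ'' → R''}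

namespace Mor

lemma L2map_id : (Mor.id (B := B) rel).L2map = LinearMap.id := by
  refine LinearMap.ext fun z => ?_
  induction z using gL2_induction with
  | h0 => simp
  | hadd x y hx hy => rw [map_add, map_add, hx, hy]
  | hmk b q =>
    rw [L2map_mk_tmul, LinearMap.id_apply]
    congr 2

lemma L2map_comp (h' : Mor (B := B) rel' rel'') (h : Mor (B := B) rel rel') :
    (h'.comp h).L2map = h'.L2map ∘ₗ h.L2map := by
  refine LinearMap.ext fun z => ?_
  induction z using gL2_induction with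
  | h0 => simp
  | hadd x y hx hy => rw [map_add, map_add, hx, hy]
  | hmk b q =>
    rw [LinearMap.comp_apply, L2map_mk_tmul, L2map_mk_tmul, L2map_mk_tmul]
    congr 2

variable (hrel : ∀ s, algebraMap R B (rel s) = 0) (hrel' : ∀ s, algebraMap R' B (rel' s) = 0)
  (hrel'' : ∀ s, algebraMap R'' B (rel'' s) = 0)
variable (M : Type m) [AddCommGroup M] [Module B M]

lemma T2pull_id : (Mor.id (B := B) rel).T2pull hrel hrel M = LinearMap.id := by
  refine LinearMap.ext fun x => ?_
  obtain ⟨φ, rfl⟩ := Submodule.Quotient.mk_surjective _ x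
  rw [T2pull_mk, L2map_id, LinearMap.comp_id, LinearMap.id_apply]

lemma T2pull_comp (h' : Mor (B := B) rel' rel'') (h : Mor (B := B) rel rel') :
    (h'.comp h).T2pull hrel hrel'' M = h.T2pull hrel hrel' M ∘ₗ h'.T2pull hrel' hrel'' M := by
  refine LinearMap.ext fun x => ?_
  obtain ⟨φ, rfl⟩ := Submodule.Quotient.mk_surjective _ x
  rw [LinearMap.comp_apply, T2pull_mk, T2pull_mk, T2pull_mk, L2map_comp, LinearMap.comp_assoc]

/-- The difference of two morphisms with the same ring map, as a map `F → Q'`. -/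
def diffQ (h₁ h₂ : Mor (B := B) rel rel') (hτ : ∀ r, h₁.τ r = h₂.τ r) :
    gF (R := R) (σ := σ) →ₛₗ[h₁.τ] gQ rel' where
  toFun f := ⟨h₁.w f - h₂.w f, by
    change gj rel' (h₁.w f - h₂.w f) = 0
    rw [map_sub, h₁.hw, h₂.hw, hτ, sub_self]⟩
  map_add' f g := by
    apply Subtype.ext
    simp only [map_add, Submodule.coe_add]
    abel
  map_smul' r f := by
    apply Subtype.ext
    simp only [LinearMap.map_smulₛₗ, Submodule.coe_smul]
    rw [← hτ r, smul_sub]

/-- Homotopy invariance: two morphisms with the same ring map induce the same map on `T²`. -/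
theorem T2pull_eq_of_τ_eq (h₁ h₂ : Mor (B := B) rel rel') (hτ : ∀ r, h₁.τ r = h₂.τ r) :
    h₁.T2pull hrel hrel' M = h₂.T2pull hrel hrel' M := by
  refine LinearMap.ext fun x => ?_
  obtain ⟨φ, rfl⟩ := Submodule.Quotient.mk_surjective _ x
  rw [T2pull_mk, T2pull_mk, Submodule.Quotient.eq]
  -- the homotopy
  let H : gL1 (R := R) B (σ := σ) →ₗ[B] gL2 B rel' :=
    (Submodule.mkQ _) ∘ₗ tmapLin h₁.τ h₁.hτ (diffQ h₁ h₂ hτ)
  refine ⟨φ ∘ₗ H, ?_⟩
  refine LinearMap.ext fun z => ?_
  simp only [gd2Star_apply, LinearMap.coe_comp, Function.comp_apply, LinearMap.sub_apply]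
  rw [← map_sub]
  congr 1
  induction z using gL2_induction with
  | h0 => simp
  | hadd x y hx hy => rw [map_add, map_add, map_add, map_add, hx, hy]; abel
  | hmk b q =>
    rw [gd2_mk_tmul, L2map_mk_tmul, L2map_mk_tmul]
    change Submodule.Quotient.mk (b ⊗ₜ (diffQ h₁ h₂ hτ (q : gF))) = _
    rw [← Submodule.Quotient.mk_sub]
    congr 1
    have e : diffQ h₁ h₂ hτ (q : gF) = h₁.wQ q - h₂.wQ q := Subtype.ext rfl
    rw [e]
    exact TensorProduct.tmul_sub b (h₁.wQ q) (h₂.wQ q)

/-- If `h' ∘ h` has identity ring map, then `T2pull h ∘ T2pull h' = id`. -/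
theorem T2pull_comp_eq_id (h : Mor (B := B) rel rel') (h' : Mor (B := B) rel' rel)
    (hτ : ∀ r, h'.τ (h.τ r) = r) :
    h.T2pull hrel hrel' M ∘ₗ h'.T2pull hrel' hrel M = LinearMap.id := by
  rw [← T2pull_comp, ← T2pull_id hrel M]
  exact T2pull_eq_of_τ_eq hrel hrel M _ _ hτ

/-- A pair of morphisms with mutually inverse ring maps gives an isomorphism on `T²`. -/
def T2equiv (h : Mor (B := B) rel rel') (h' : Mor (B := B) rel' rel)
    (hτ : ∀ r, h'.τ (h.τ r) = r) (hτ' : ∀ r, h.τ (h'.τ r) = r) :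
    gT2 rel hrel M ≃ₗ[B] gT2 rel' hrel' M :=
  LinearEquiv.ofLinearMap (h'.T2pull hrel' hrel M) (h.T2pull hrel hrel' M)
    (T2pull_comp_eq_id hrel' hrel M h' h hτ') (T2pull_comp_eq_id hrel hrel' M h h' hτ)

end Mor

end Groth.Agent.Helper18.GenT

end
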