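import Groth.Agent.Lib.Helper18.CotT.GenLift

/-!
# Invariance of `T²` under adjoining polynomial variables mapping to zero
-/

set_option autoImplicit false

open TensorProduct MvPolynomial

noncomputable section

namespace Groth.Agent.Helper18.GenT

universe u v t k m

variable {R : Type u} {B : Type v} {σ : Type t} {κ : Type k}
  [CommRing R] [CommRing B] [Algebra R B] [Algebra (MvPolynomial κ R) B]
variable (rel : σ → R)

/-- The relations of `R[κ] → B`: those of `R` together with the variables. -/
def relPoly : σ ⊕ κ → MvPolynomial κ R := Sum.elim (fun s => C (rel s)) X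

@[simp] lemma relPoly_inl (s : σ) : relPoly (κ := κ) rel (Sum.inl s) = C (rel s) := rfl
@[simp] lemma relPoly_inr (y : κ) : relPoly (κ := κ) rel (Sum.inr y) = X y := rfl

section Choice

variable (R κ σ)

/-- The value of the section on a monomial. -/
def vS (m : κ →₀ ℕ) : gF (R := MvPolynomial κ R) (σ := σ ⊕ κ) :=
  if hm : m.support.Nonempty then
    Finsupp.single (Sum.inr hm.choose) (monomial (m - Finsupp.single hm.choose 1) (1 : R))
  else 0

/-- The `R`-linear section `p ↦ ` a lift of `p - C (constantCoeff p)`. -/
def secS : MvPolynomial κ R →ₗ[R] gF (R := MvPolynomial κ R) (σ := σ ⊕ κ) :=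
  (basisMonomials κ R).constr R (vS R σ κ)

lemma secS_monomial (m : κ →₀ ℕ) (r : R) : secS R σ κ (monomial m r) = r • vS R σ κ m := by
  have : monomial m r = r • (basisMonomials κ R m) := by
    rw [coe_basisMonomials, smul_monomial, smul_eq_mul, mul_one]
  rw [this, map_smul, secS, Module.Basis.constr_basis]

end Choice


variable (hC : ∀ r, algebraMap (MvPolynomial κ R) B (C r) = algebraMap R B r)
  (hX : ∀ y : κ, algebraMap (MvPolynomial κ R) B (X y) = 0)
  (hrel : ∀ s, algebraMap R B (rel s) = 0)

include hC hX hrel in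
lemma hrelPoly : ∀ s, algebraMap (MvPolynomial κ R) B (relPoly (κ := κ) rel s) = 0 := by
  rintro (s | y)
  · rw [relPoly_inl, hC, hrel]
  · rw [relPoly_inr, hX]

include hC hX in
lemma algebraMap_constantCoeff (p : MvPolynomial κ R) :
    algebraMap R B (constantCoeff p) = algebraMap (MvPolynomial κ R) B p := by
  have : (algebraMap R B).comp (constantCoeff : MvPolynomial κ R →+* R) =
      algebraMap (MvPolynomial κ R) B := by
    apply MvPolynomial.ringHom_ext
    · intro r
      simp [hC]
    · intro y
      simp [hX]
  exact congrArg (fun f : MvPolynomial κ R →+* B => f p) this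

/-- The morphism `(R, rel) → (R[κ], relPoly)`. -/
def morU : Mor (B := B) rel (relPoly (κ := κ) rel) :=
  Mor.ofLift (C : R →+* MvPolynomial κ R) hC (fun s => Finsupp.single (Sum.inl s) 1) (fun s => by
    rw [gj_single, one_mul, relPoly_inl])

/-- The morphism `(R[κ], relPoly) → (R, rel)`. -/
def morV : Mor (B := B) (relPoly (κ := κ) rel) rel :=
  Mor.ofLift (constantCoeff : MvPolynomial κ R →+* R) (algebraMap_constantCoeff hC hX)
    (Sum.elim (fun s => Finsupp.single s 1) (fun _ => 0)) (by
      rintro (s | y)
      · rw [Sum.elim_inl, gj_single, one_mul, relPoly_inl, constantCoeff_C]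
      · rw [Sum.elim_inr, map_zero, relPoly_inr, constantCoeff_X])

lemma morV_morU_τ (r : R) : (morV rel hC hX).τ ((morU (κ := κ) rel hC).τ r) = r :=
  constantCoeff_C _ r

/-- The composite `W = u ∘ v` on `F''`. -/
abbrev WW : gF (R := MvPolynomial κ R) (σ := σ ⊕ κ) →ₛₗ[((morU (κ := κ) rel hC).comp (morV rel hC hX)).τ]
    gF (R := MvPolynomial κ R) (σ := σ ⊕ κ) :=
  ((morU (κ := κ) rel hC).comp (morV rel hC hX)).w

lemma WW_single_inl (s : σ) (p : MvPolynomial κ R) :
    WW rel hC hX (Finsupp.single (Sum.inl s) p) = Finsupp.single (Sum.inl s) (C (constantCoeff p)) := by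
  change liftW _ _ (liftW _ _ _) = _
  rw [liftW_single, Sum.elim_inl, LinearMap.map_smulₛₗ, liftW_single, map_one, one_smul,
    Finsupp.smul_single, smul_eq_mul, mul_one]

lemma WW_single_inr (y : κ) (p : MvPolynomial κ R) :
    WW rel hC hX (Finsupp.single (Sum.inr y) p) = 0 := by
  change liftW _ _ (liftW _ _ _) = _
  rw [liftW_single, Sum.elim_inr, smul_zero, map_zero]


lemma koszul_mem (c : κ) (t : σ ⊕ κ) (p : MvPolynomial κ R) :
    Finsupp.single t (p * X c) - Finsupp.single (Sum.inr c) (p * relPoly (κ := κ) rel t) ∈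
      gF0 (relPoly (κ := κ) rel) := by
  have h : gj (relPoly (κ := κ) rel) (Finsupp.single (Sum.inr c) 1) • Finsupp.single t (1 : MvPolynomial κ R) -
      gj (relPoly (κ := κ) rel) (Finsupp.single t 1) • Finsupp.single (Sum.inr c) (1 : MvPolynomial κ R) ∈
      gF0 (relPoly (κ := κ) rel) :=
    Submodule.subset_span ⟨_, _, rfl⟩
  have h2 := Submodule.smul_mem _ p h
  convert h2 using 1
  rw [gj_single, gj_single, one_mul, one_mul, relPoly_inr, Finsupp.smul_single, Finsupp.smul_single,
    smul_sub, Finsupp.smul_single, Finsupp.smul_single]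
  simp only [smul_eq_mul, mul_one]

lemma tsub_single_add {m : κ →₀ ℕ} {c : κ} (hc : c ∈ m.support) :
    (m - Finsupp.single c 1) + Finsupp.single c 1 = m := by
  classical
  ext i
  by_cases hi : i = c
  · rw [hi]
    have : 1 ≤ m c := Nat.one_le_iff_ne_zero.2 (Finsupp.mem_support_iff.1 hc)
    simp [Finsupp.tsub_apply, Nat.sub_add_cancel this]
  · simp [Finsupp.tsub_apply, Finsupp.single_apply, Ne.symm hi]

lemma monomial_eq_mul_X {m : κ →₀ ℕ} {c : κ} (hc : c ∈ m.support) (r : R) :
    monomial m r = monomial (m - Finsupp.single c 1) r * X c := by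
  rw [X, monomial_mul, mul_one, tsub_single_add hc]

lemma key_inr (y : κ) (m : κ →₀ ℕ) (r : R) :
    Finsupp.single (Sum.inr y) (monomial m r) - secS R σ κ (monomial m r * X y) ∈
      gF0 (relPoly (κ := κ) rel) := by
  classical
  have e1 : monomial m r * X y = monomial (m + Finsupp.single y 1) r := by
    rw [X, monomial_mul, mul_one]
  rw [e1, secS_monomial]
  set m' := m + Finsupp.single y 1 with hm'
  have hne : m'.support.Nonempty := by
    refine ⟨y, ?_⟩
    rw [Finsupp.mem_support_iff, hm']
    simp
  rw [vS, dif_pos hne]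
  set c := hne.choose with hcdef
  have hc : c ∈ m'.support := hne.choose_spec
  rw [Finsupp.smul_single, smul_monomial, smul_eq_mul, mul_one]
  by_cases hcy : c = y
  · have : m' - Finsupp.single c 1 = m := by
      rw [hcy, hm', add_tsub_cancel_right]
    rw [this, hcy, sub_self]
    exact Submodule.zero_mem _
  · have hcm : c ∈ m.support := by
      rw [Finsupp.mem_support_iff] at hc ⊢
      rw [hm', Finsupp.add_apply, Finsupp.single_apply, if_neg (Ne.symm hcy), add_zero] at hc
      exact hc
    have e2 : m' - Finsupp.single c 1 = (m - Finsupp.single c 1) + Finsupp.single y 1 := by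
      have h1 : m' = ((m - Finsupp.single c 1) + Finsupp.single y 1) + Finsupp.single c 1 := by
        rw [hm', add_right_comm, tsub_single_add hcm]
      rw [h1, add_tsub_cancel_right]
    have e3 : monomial (m' - Finsupp.single c 1) r =
        monomial (m - Finsupp.single c 1) r * relPoly (κ := κ) rel (Sum.inr y) := by
      rw [e2, relPoly_inr, X, monomial_mul, mul_one]
    rw [e3, monomial_eq_mul_X hcm r]
    exact koszul_mem rel c (Sum.inr y) _

lemma key_inl (s : σ) (m : κ →₀ ℕ) (r : R) :
    Finsupp.single (Sum.inl s) (monomial m r) -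
        Finsupp.single (Sum.inl s) (C (constantCoeff (monomial m r))) -
        secS R σ κ (monomial m r * C (rel s)) ∈ gF0 (relPoly (κ := κ) rel) := by
  classical
  have e1 : monomial m r * C (rel s) = monomial m (r * rel s) := by
    rw [C_apply, monomial_mul, add_zero]
  rw [e1, secS_monomial, vS]
  by_cases hne : m.support.Nonempty
  · rw [dif_pos hne]
    set c := hne.choose with hcdef
    have hc : c ∈ m.support := hne.choose_spec
    have hm0 : m ≠ 0 := Finsupp.support_nonempty_iff.1 hne
    rw [constantCoeff_monomial, if_neg hm0, map_zero, Finsupp.single_zero, sub_zero,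
      Finsupp.smul_single, smul_monomial, smul_eq_mul, mul_one]
    have e3 : monomial (m - Finsupp.single c 1) (r * rel s) =
        monomial (m - Finsupp.single c 1) r * relPoly (κ := κ) rel (Sum.inl s) := by
      rw [relPoly_inl, C_apply, monomial_mul, add_zero]
    rw [e3, monomial_eq_mul_X hc r]
    exact koszul_mem rel c (Sum.inl s) _
  · rw [dif_neg hne, smul_zero, sub_zero]
    have hm0 : m = 0 := by
      by_contra h
      exact hne (Finsupp.support_nonempty_iff.2 h)
    rw [hm0, constantCoeff_monomial, if_pos rfl]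
    have : (monomial (0 : κ →₀ ℕ) r : MvPolynomial κ R) = C r := rfl
    rw [this, sub_self]
    exact Submodule.zero_mem _


/-- The key identity: `f ≡ W f + S (j f)` modulo trivial relations. -/
lemma key (f : gF (R := MvPolynomial κ R) (σ := σ ⊕ κ)) :
    f - WW rel hC hX f - secS R σ κ (gj (relPoly (κ := κ) rel) f) ∈ gF0 (relPoly (κ := κ) rel) := by
  induction f using Finsupp.induction_linear with
  | zero => simp
  | add f g hf hg =>
    have : f + g - WW rel hC hX (f + g) - secS R σ κ (gj (relPoly (κ := κ) rel) (f + g)) =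
        (f - WW rel hC hX f - secS R σ κ (gj (relPoly (κ := κ) rel) f)) +
        (g - WW rel hC hX g - secS R σ κ (gj (relPoly (κ := κ) rel) g)) := by
      rw [map_add, map_add, map_add]; abel
    rw [this]
    exact Submodule.add_mem _ hf hg
  | single t p =>
    induction p using MvPolynomial.induction_on' with
    | monomial m r =>
      rcases t with s | y
      · rw [WW_single_inl, gj_single, relPoly_inl]
        exact key_inl rel s m r
      · rw [WW_single_inr, sub_zero, gj_single, relPoly_inr]
        exact key_inr rel y m r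
    | add p q hp hq =>
      have : Finsupp.single t (p + q) - WW rel hC hX (Finsupp.single t (p + q)) -
          secS R σ κ (gj (relPoly (κ := κ) rel) (Finsupp.single t (p + q))) =
          (Finsupp.single t p - WW rel hC hX (Finsupp.single t p) -
            secS R σ κ (gj (relPoly (κ := κ) rel) (Finsupp.single t p))) +
          (Finsupp.single t q - WW rel hC hX (Finsupp.single t q) -
            secS R σ κ (gj (relPoly (κ := κ) rel) (Finsupp.single t q))) := by
        rw [Finsupp.single_add, map_add, map_add, map_add]; abel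
      rw [this]
      exact Submodule.add_mem _ hp hq

lemma WW_sub_mem (q : gQ (relPoly (κ := κ) rel)) :
    WW rel hC hX (q : gF) - (q : gF (R := MvPolynomial κ R) (σ := σ ⊕ κ)) ∈
      gF0 (relPoly (κ := κ) rel) := by
  have h := key rel hC hX (q : gF (R := MvPolynomial κ R) (σ := σ ⊕ κ))
  rw [show gj (relPoly (κ := κ) rel) (q : gF) = 0 from q.2, map_zero, sub_zero] at h
  have := Submodule.neg_mem _ h
  rwa [neg_sub] at this

lemma L2map_comp_eq_id :
    ((morU (κ := κ) rel hC).comp (morV rel hC hX)).L2map = LinearMap.id := by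
  refine LinearMap.ext fun z => ?_
  induction z using Mor.gL2_induction with
  | h0 => simp
  | hadd x y hx hy => rw [map_add, map_add, hx, hy]
  | hmk b q =>
    rw [Mor.L2map_mk_tmul, LinearMap.id_apply, Submodule.Quotient.eq]
    have hmem : ((morU (κ := κ) rel hC).comp (morV rel hC hX)).wQ q - q ∈
        gF0Q (relPoly (κ := κ) rel) := WW_sub_mem rel hC hX q
    refine ⟨b ⊗ₜ ⟨((morU (κ := κ) rel hC).comp (morV rel hC hX)).wQ q - q, hmem⟩, ?_⟩
    rw [LinearMap.baseChange_tmul]
    exact TensorProduct.tmul_sub b (((morU (κ := κ) rel hC).comp (morV rel hC hX)).wQ q) q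

variable (M : Type m) [AddCommGroup M] [Module B M]

/-- Adjoining polynomial variables that map to zero does not change `T²`. -/
def T2equivPoly :
    gT2 rel hrel M ≃ₗ[B] gT2 (relPoly (κ := κ) rel) (hrelPoly rel hC hX hrel) M :=
  LinearEquiv.ofLinearMap ((morV rel hC hX).T2pull (hrelPoly rel hC hX hrel) hrel M)
    ((morU (κ := κ) rel hC).T2pull hrel (hrelPoly rel hC hX hrel) M)
    (by
      rw [← Mor.T2pull_comp]
      refine LinearMap.ext fun x => ?_
      obtain ⟨φ, rfl⟩ := Submodule.Quotient.mk_surjective _ x
      rw [Mor.T2pull_mk, L2map_comp_eq_id, LinearMap.comp_id, LinearMap.id_apply])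
    (Mor.T2pull_comp_eq_id hrel (hrelPoly rel hC hX hrel) M _ _ (morV_morU_τ rel hC hX))


lemma gj_secS (p : MvPolynomial κ R) :
    gj (relPoly (κ := κ) rel) (secS R σ κ p) = p - C (constantCoeff p) := by
  classical
  induction p using MvPolynomial.induction_on' with
  | monomial m r =>
    rw [secS_monomial, vS]
    by_cases hne : m.support.Nonempty
    · rw [dif_pos hne]
      have hc : hne.choose ∈ m.support := hne.choose_spec
      have hm0 : m ≠ 0 := Finsupp.support_nonempty_iff.1 hne
      rw [constantCoeff_monomial, if_neg hm0, map_zero, sub_zero, Finsupp.smul_single,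
        smul_monomial, smul_eq_mul, mul_one, gj_single, relPoly_inr, ← monomial_eq_mul_X hc]
    · rw [dif_neg hne, smul_zero, map_zero]
      have hm0 : m = 0 := by
        by_contra h
        exact hne (Finsupp.support_nonempty_iff.2 h)
      rw [hm0, constantCoeff_monomial, if_pos rfl]
      have : (monomial (0 : κ →₀ ℕ) r : MvPolynomial κ R) = C r := rfl
      rw [this, sub_self]
  | add p q hp hq => rw [map_add, map_add, hp, hq, map_add, map_add]; abel

include hC hX hrel in
lemma span_relPoly (hker : Ideal.span (Set.range rel) = RingHom.ker (algebraMap R B)) :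
    Ideal.span (Set.range (relPoly (κ := κ) rel)) =
      RingHom.ker (algebraMap (MvPolynomial κ R) B) := by
  apply le_antisymm
  · rw [Ideal.span_le]
    rintro _ ⟨t, rfl⟩
    exact hrelPoly rel hC hX hrel t
  · intro p hp
    rw [RingHom.mem_ker] at hp
    have h1 : constantCoeff p ∈ Ideal.span (Set.range rel) := by
      rw [hker, RingHom.mem_ker, algebraMap_constantCoeff hC hX, hp]
    have h2 : C (constantCoeff p) ∈ Ideal.span (Set.range (relPoly (κ := κ) rel)) := by
      have hle : Ideal.map (C : R →+* MvPolynomial κ R) (Ideal.span (Set.range rel)) ≤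
          Ideal.span (Set.range (relPoly (κ := κ) rel)) := by
        rw [Ideal.map_span, Ideal.span_le]
        rintro _ ⟨_, ⟨s, rfl⟩, rfl⟩
        exact Ideal.subset_span ⟨Sum.inl s, rfl⟩
      exact hle (Ideal.mem_map_of_mem _ h1)
    have h3 : p - C (constantCoeff p) ∈ Ideal.span (Set.range (relPoly (κ := κ) rel)) := by
      rw [← gj_secS (σ := σ) rel p, ← range_gj]
      exact LinearMap.mem_range_self _ _
    have := Ideal.add_mem _ h3 h2
    rwa [sub_add_cancel] at this

end Groth.Agent.Helper18.GenT

end
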