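import Mathlib
import Groth.Prelude.Def_CotT

/-!
# The nine-term exact sequence of `T⁰, T¹, T²` in the module variable
-/

set_option autoImplicit false

namespace Groth.Agent.Helper18.CotTLib

open CotT Function

universe u v w t m

section Post

variable {B : Type v} [CommRing B] {L : Type*} [AddCommGroup L] [Module B L]
variable {M' M M'' : Type m} [AddCommGroup M'] [Module B M'] [AddCommGroup M] [Module B M]
  [AddCommGroup M''] [Module B M'']
variable (f : M' →ₗ[B] M) (g : M →ₗ[B] M'')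

lemma exists_factor (hf : Injective f) (hfg : Exact f g) (φ : L →ₗ[B] M) (h : g ∘ₗ φ = 0) :
    ∃ φ' : L →ₗ[B] M', f ∘ₗ φ' = φ := by
  have hmem : ∀ x, φ x ∈ LinearMap.range f := fun x => (hfg (φ x)).1 (by
    have := congrArg (fun k => k x) h
    simpa using this)
  refine ⟨((LinearEquiv.ofInjective f hf).symm : LinearMap.range f →ₗ[B] M') ∘ₗ
    φ.codRestrict (LinearMap.range f) hmem, ?_⟩
  ext x
  simp only [LinearMap.coe_comp, LinearEquiv.coe_coe, Function.comp_apply]
  have := (LinearEquiv.ofInjective f hf).apply_symm_apply (φ.codRestrict (LinearMap.range f) hmem x)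
  exact congrArg Subtype.val this

lemma exists_lift [Module.Projective B L] (hg : Surjective g) (ψ : L →ₗ[B] M'') :
    ∃ φ : L →ₗ[B] M, g ∘ₗ φ = ψ :=
  Module.projective_lifting_property g ψ hg

lemma comp_injective (hf : Injective f) {φ ψ : L →ₗ[B] M'} (h : f ∘ₗ φ = f ∘ₗ ψ) : φ = ψ := by
  ext x
  exact hf (congrArg (fun k => k x) h)

end Post


section Main

variable {A : Type u} {B : Type v} {ι : Type w} {σ : Type t}
variable [CommRing A] [CommRing B] [Algebra A B]
variable (P : Algebra.Presentation A B ι σ)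

instance : Module.Free B (L0 P) := Module.Free.of_basis P.cotangentSpaceBasis
instance : Module.Free B (L1 P) := Module.Free.of_basis (L1basis P)

variable {M' M M'' : Type m} [AddCommGroup M'] [Module B M'] [AddCommGroup M] [Module B M]
  [AddCommGroup M''] [Module B M'']
variable (f : M' →ₗ[B] M) (g : M →ₗ[B] M'')

/-- `d₁*` with values in the cocycles. -/
noncomputable def d1Z (N : Type m) [AddCommGroup N] [Module B N] :
    (L0 P →ₗ[B] N) →ₗ[B] cocycles1 P N :=
  (d1Star P N).codRestrict (cocycles1 P N) (fun φ => by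
    have := congrArg (fun k => k φ) (d2Star_comp_d1Star P N)
    simpa using this)

/-- postcomposition on `Hom(L₀, -)` -/
noncomputable abbrev post0 : (L0 P →ₗ[B] M) →ₗ[B] (L0 P →ₗ[B] M'') := LinearMap.llcomp B (L0 P) M M'' g

/-- postcomposition on `Hom(L₁, -)` -/
noncomputable abbrev post1 : (L1 P →ₗ[B] M) →ₗ[B] (L1 P →ₗ[B] M'') := LinearMap.llcomp B (L1 P) M M'' g

/-- postcomposition on `Hom(L₂, -)` -/
noncomputable abbrev post2 : (L2 P →ₗ[B] M) →ₗ[B] (L2 P →ₗ[B] M'') := LinearMap.llcomp B (L2 P) M M'' g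

lemma T0map_val (φ : T0 P M) : ((T0map P g φ : T0 P M'') : L0 P →ₗ[B] M'') = g ∘ₗ (φ : L0 P →ₗ[B] M) := rfl

lemma cocycles1Map_val (c : cocycles1 P M) :
    ((cocycles1Map P g c : cocycles1 P M'') : L1 P →ₗ[B] M'') = g ∘ₗ (c : L1 P →ₗ[B] M) := rfl

lemma T1map_mk (c : cocycles1 P M) :
    T1map P g (Submodule.Quotient.mk c) = Submodule.Quotient.mk (cocycles1Map P g c) := rfl

lemma T2map_mk (φ : L2 P →ₗ[B] M) :
    T2map P g (Submodule.Quotient.mk φ) = Submodule.Quotient.mk (g ∘ₗ φ) := rfl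

include f in
lemma T0map_injective (hf : Injective f) : Injective (T0map P f) := by
  intro φ ψ h
  apply Subtype.ext
  apply comp_injective f hf
  have := congrArg Subtype.val h
  simpa only [T0map_val] using this

lemma T0_exact (hf : Injective f) (hfg : Exact f g) : Exact (T0map P f) (T0map P g) := by
  intro φ
  constructor
  · intro h
    have h0 : g ∘ₗ (φ : L0 P →ₗ[B] M) = 0 := by
      have := congrArg Subtype.val h
      rw [T0map_val] at this
      exact this
    obtain ⟨φ', hφ'⟩ := exists_factor f g hf hfg (φ : L0 P →ₗ[B] M) h0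
    refine ⟨⟨φ', ?_⟩, Subtype.ext hφ'⟩
    rw [LinearMap.mem_ker, d1Star_apply]
    apply comp_injective f hf
    rw [← LinearMap.comp_assoc, hφ', LinearMap.comp_zero]
    have := φ.2
    rw [LinearMap.mem_ker, d1Star_apply] at this
    exact this
  · rintro ⟨ψ, rfl⟩
    apply Subtype.ext
    rw [T0map_val, T0map_val, ← LinearMap.comp_assoc, hfg.linearMap_comp_eq_zero,
      LinearMap.zero_comp]
    rfl


lemma mem_coboundaries1_iff {N : Type m} [AddCommGroup N] [Module B N] (c : cocycles1 P N) :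
    c ∈ coboundaries1 P N ↔ ∃ ψ : L0 P →ₗ[B] N, ψ ∘ₗ d1 P = (c : L1 P →ₗ[B] N) := by
  rw [Submodule.mem_comap, LinearMap.mem_range]
  rfl

lemma mem_range_d2Star_iff {N : Type m} [AddCommGroup N] [Module B N] (φ : L2 P →ₗ[B] N) :
    φ ∈ LinearMap.range (d2Star P N) ↔ ∃ ψ : L1 P →ₗ[B] N, ψ ∘ₗ d2 P = φ := by
  rw [LinearMap.mem_range]
  rfl

lemma mem_cocycles1_iff {N : Type m} [AddCommGroup N] [Module B N] (c : L1 P →ₗ[B] N) :
    c ∈ cocycles1 P N ↔ c ∘ₗ d2 P = 0 := by
  rw [LinearMap.mem_ker, d2Star_apply]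

lemma T1_exact (hf : Injective f) (hg : Surjective g) (hfg : Exact f g) :
    Exact (T1map P f) (T1map P g) := by
  intro x
  constructor
  · intro h
    obtain ⟨c, rfl⟩ := Submodule.Quotient.mk_surjective _ x
    rw [T1map_mk, Submodule.Quotient.mk_eq_zero, mem_coboundaries1_iff] at h
    obtain ⟨ψ'', hψ''⟩ := h
    rw [cocycles1Map_val] at hψ''
    obtain ⟨ψ, hψ⟩ := exists_lift g hg ψ''
    have h0 : g ∘ₗ ((c : L1 P →ₗ[B] M) - ψ ∘ₗ d1 P) = 0 := by
      rw [LinearMap.comp_sub, ← LinearMap.comp_assoc, hψ, hψ'', sub_self]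
    obtain ⟨c', hc'⟩ := exists_factor f g hf hfg _ h0
    have hc'Z : c' ∈ cocycles1 P M' := by
      rw [mem_cocycles1_iff]
      apply comp_injective f hf
      rw [← LinearMap.comp_assoc, hc', LinearMap.sub_comp, LinearMap.comp_assoc, d1_comp_d2,
        LinearMap.comp_zero, sub_zero, LinearMap.comp_zero]
      exact (mem_cocycles1_iff P _).1 c.2
    refine ⟨Submodule.Quotient.mk ⟨c', hc'Z⟩, ?_⟩
    rw [T1map_mk, Submodule.Quotient.eq, mem_coboundaries1_iff]
    refine ⟨-ψ, ?_⟩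
    change _ = (cocycles1Map P f ⟨c', hc'Z⟩ : L1 P →ₗ[B] M) - (c : L1 P →ₗ[B] M)
    rw [cocycles1Map_val]
    change _ = f ∘ₗ c' - _
    rw [hc', LinearMap.neg_comp]
    abel
  · rintro ⟨y, rfl⟩
    obtain ⟨c, rfl⟩ := Submodule.Quotient.mk_surjective _ y
    rw [T1map_mk, T1map_mk]
    have : cocycles1Map P g (cocycles1Map P f c) = 0 := by
      apply Subtype.ext
      rw [cocycles1Map_val, cocycles1Map_val, ← LinearMap.comp_assoc,
        hfg.linearMap_comp_eq_zero, LinearMap.zero_comp]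
      rfl
    rw [this, Submodule.Quotient.mk_zero]

lemma T2_exact (hf : Injective f) (hg : Surjective g) (hfg : Exact f g) :
    Exact (T2map P f) (T2map P g) := by
  intro x
  constructor
  · intro h
    obtain ⟨φ, rfl⟩ := Submodule.Quotient.mk_surjective _ x
    rw [T2map_mk, Submodule.Quotient.mk_eq_zero, mem_range_d2Star_iff] at h
    obtain ⟨ψ'', hψ''⟩ := h
    obtain ⟨ψ, hψ⟩ := exists_lift g hg ψ''
    have h0 : g ∘ₗ (φ - ψ ∘ₗ d2 P) = 0 := by
      rw [LinearMap.comp_sub, ← LinearMap.comp_assoc, hψ, hψ'', sub_self]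
    obtain ⟨φ', hφ'⟩ := exists_factor f g hf hfg _ h0
    refine ⟨Submodule.Quotient.mk φ', ?_⟩
    rw [T2map_mk, Submodule.Quotient.eq, mem_range_d2Star_iff]
    refine ⟨-ψ, ?_⟩
    rw [hφ', LinearMap.neg_comp]
    abel
  · rintro ⟨y, rfl⟩
    obtain ⟨φ, rfl⟩ := Submodule.Quotient.mk_surjective _ y
    rw [T2map_mk, T2map_mk, ← LinearMap.comp_assoc, hfg.linearMap_comp_eq_zero,
      LinearMap.zero_comp, Submodule.Quotient.mk_zero]


/-! ### First snake: `δ₀ : T⁰(M'') → T¹(M')` -/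

lemma d1Z_val {N : Type m} [AddCommGroup N] [Module B N] (φ : L0 P →ₗ[B] N) :
    ((d1Z P N φ : cocycles1 P N) : L1 P →ₗ[B] N) = φ ∘ₗ d1 P := rfl

lemma post0_exact (hf : Injective f) (hfg : Exact f g) :
    Exact (post0 P f) (post0 P g) := by
  intro φ
  constructor
  · intro h
    obtain ⟨φ', hφ'⟩ := exists_factor f g hf hfg φ h
    exact ⟨φ', hφ'⟩
  · rintro ⟨ψ, rfl⟩
    change g ∘ₗ (f ∘ₗ ψ) = 0
    rw [← LinearMap.comp_assoc, hfg.linearMap_comp_eq_zero, LinearMap.zero_comp]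

lemma post2_exact (hf : Injective f) (hfg : Exact f g) :
    Exact (post2 P f) (post2 P g) := by
  intro φ
  constructor
  · intro h
    obtain ⟨φ', hφ'⟩ := exists_factor f g hf hfg φ h
    exact ⟨φ', hφ'⟩
  · rintro ⟨ψ, rfl⟩
    change g ∘ₗ (f ∘ₗ ψ) = 0
    rw [← LinearMap.comp_assoc, hfg.linearMap_comp_eq_zero, LinearMap.zero_comp]

lemma cocycles1Map_exact (hf : Injective f) (hfg : Exact f g) :
    Exact (cocycles1Map P f) (cocycles1Map P g) := by
  intro c
  constructor
  · intro h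
    have h0 : g ∘ₗ (c : L1 P →ₗ[B] M) = 0 := by
      have := congrArg Subtype.val h
      rw [cocycles1Map_val] at this
      exact this
    obtain ⟨c', hc'⟩ := exists_factor f g hf hfg _ h0
    refine ⟨⟨c', ?_⟩, Subtype.ext hc'⟩
    rw [mem_cocycles1_iff]
    apply comp_injective f hf
    rw [← LinearMap.comp_assoc, hc', LinearMap.comp_zero]
    exact (mem_cocycles1_iff P _).1 c.2
  · rintro ⟨ψ, rfl⟩
    apply Subtype.ext
    rw [cocycles1Map_val, cocycles1Map_val, ← LinearMap.comp_assoc,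
      hfg.linearMap_comp_eq_zero, LinearMap.zero_comp]
    rfl

include f in
lemma cocycles1Map_injective (hf : Injective f) : Injective (cocycles1Map P f) := by
  intro c c' h
  apply Subtype.ext
  apply comp_injective f hf
  have := congrArg Subtype.val h
  rw [cocycles1Map_val, cocycles1Map_val] at this
  exact this

lemma post0_surjective (hg : Surjective g) : Surjective (post0 P g) := fun ψ =>
  exists_lift g hg ψ

lemma exact_subtype_d1Z (N : Type m) [AddCommGroup N] [Module B N] :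
    Exact (LinearMap.ker (d1Star P N)).subtype (d1Z P N) := by
  intro φ
  constructor
  · intro h
    refine ⟨⟨φ, ?_⟩, rfl⟩
    rw [LinearMap.mem_ker]
    exact congrArg Subtype.val h
  · rintro ⟨ψ, rfl⟩
    apply Subtype.ext
    exact ψ.2

lemma exact_d1Z_mkQ (N : Type m) [AddCommGroup N] [Module B N] :
    Exact (d1Z P N) (coboundaries1 P N).mkQ := by
  intro c
  rw [Submodule.mkQ_apply, Submodule.Quotient.mk_eq_zero, mem_coboundaries1_iff]
  constructor
  · rintro ⟨ψ, hψ⟩
    exact ⟨ψ, Subtype.ext hψ⟩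
  · rintro ⟨ψ, rfl⟩
    exact ⟨ψ, rfl⟩

/-- The connecting map `δ₀ : T⁰(M'') → T¹(M')`. -/
noncomputable def δ₀ (hf : Injective f) (hg : Surjective g) (hfg : Exact f g) :
    T0 P M'' →ₗ[B] T1 P M' :=
  SnakeLemma.δ' (d1Z P M') (d1Z P M) (d1Z P M'') (post0 P f) (post0 P g) (post0_exact P f g hf hfg)
    (cocycles1Map P f) (cocycles1Map P g) (cocycles1Map_exact P f g hf hfg)
    (by ext φ : 2; rfl) (by ext φ : 2; rfl)
    (LinearMap.ker (d1Star P M'')).subtype (exact_subtype_d1Z P M'')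
    (coboundaries1 P M').mkQ (exact_d1Z_mkQ P M')
    (post0_surjective P g hg) (cocycles1Map_injective P f hf)

lemma exact_T0map_δ₀ (hf : Injective f) (hg : Surjective g) (hfg : Exact f g) :
    Exact (T0map P g) (δ₀ P f g hf hg hfg) :=
  SnakeLemma.exact_δ'_right (d1Z P M') (d1Z P M) (d1Z P M'') (post0 P f) (post0 P g)
    (post0_exact P f g hf hfg)
    (cocycles1Map P f) (cocycles1Map P g) (cocycles1Map_exact P f g hf hfg)
    (by ext φ : 2; rfl) (by ext φ : 2; rfl)
    (LinearMap.ker (d1Star P M)).subtype (exact_subtype_d1Z P M)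
    (LinearMap.ker (d1Star P M'')).subtype (exact_subtype_d1Z P M'')
    (coboundaries1 P M').mkQ (exact_d1Z_mkQ P M')
    (post0_surjective P g hg) (cocycles1Map_injective P f hf)
    (T0map P g) (by ext φ : 2; rfl) (Submodule.injective_subtype _)

lemma exact_δ₀_T1map (hf : Injective f) (hg : Surjective g) (hfg : Exact f g) :
    Exact (δ₀ P f g hf hg hfg) (T1map P f) :=
  SnakeLemma.exact_δ'_left (d1Z P M') (d1Z P M) (d1Z P M'') (post0 P f) (post0 P g)
    (post0_exact P f g hf hfg)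
    (cocycles1Map P f) (cocycles1Map P g) (cocycles1Map_exact P f g hf hfg)
    (by ext φ : 2; rfl) (by ext φ : 2; rfl)
    (LinearMap.ker (d1Star P M'')).subtype (exact_subtype_d1Z P M'')
    (coboundaries1 P M').mkQ (exact_d1Z_mkQ P M')
    (coboundaries1 P M).mkQ (exact_d1Z_mkQ P M)
    (post0_surjective P g hg) (cocycles1Map_injective P f hf)
    (T1map P f) (by ext c : 1; rfl) (Submodule.mkQ_surjective _)


/-! ### Second snake: `δ₁ : T¹(M'') → T²(M')` -/

/-- `Hom(L₁, N)` modulo coboundaries. -/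
abbrev Q1 (N : Type m) [AddCommGroup N] [Module B N] : Type _ :=
  (L1 P →ₗ[B] N) ⧸ LinearMap.range (d1Star P N)

/-- postcomposition on `Q1`. -/
noncomputable def postQ1 : Q1 P M →ₗ[B] Q1 P M'' :=
  Submodule.mapQ _ _ (post1 P g) (by
    rintro _ ⟨ψ, rfl⟩
    exact ⟨g ∘ₗ ψ, by rw [d1Star_apply, LinearMap.comp_assoc]; rfl⟩)

lemma postQ1_mk (c : L1 P →ₗ[B] M) :
    postQ1 P g (Submodule.Quotient.mk c) = Submodule.Quotient.mk (g ∘ₗ c) := rfl

/-- `d₂*` on `Q1`. -/
noncomputable def d2Q (N : Type m) [AddCommGroup N] [Module B N] : Q1 P N →ₗ[B] (L2 P →ₗ[B] N) :=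
  Submodule.liftQ _ (d2Star P N) (LinearMap.range_le_ker_iff.2 (d2Star_comp_d1Star P N))

lemma d2Q_mk {N : Type m} [AddCommGroup N] [Module B N] (c : L1 P →ₗ[B] N) :
    d2Q P N (Submodule.Quotient.mk c) = c ∘ₗ d2 P := rfl

/-- inclusion `T¹(N) → Q1(N)`. -/
noncomputable def ιT1 (N : Type m) [AddCommGroup N] [Module B N] : T1 P N →ₗ[B] Q1 P N :=
  Submodule.mapQ _ _ (cocycles1 P N).subtype le_rfl

lemma ιT1_mk {N : Type m} [AddCommGroup N] [Module B N] (c : cocycles1 P N) :
    ιT1 P N (Submodule.Quotient.mk c) = Submodule.Quotient.mk (c : L1 P →ₗ[B] N) := rfl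

lemma ιT1_injective (N : Type m) [AddCommGroup N] [Module B N] : Injective (ιT1 P N) := by
  rw [← LinearMap.ker_eq_bot, LinearMap.ker_eq_bot']
  intro x hx
  obtain ⟨c, rfl⟩ := Submodule.Quotient.mk_surjective _ x
  rw [ιT1_mk, Submodule.Quotient.mk_eq_zero] at hx
  rw [Submodule.Quotient.mk_eq_zero]
  exact hx

lemma exact_ιT1_d2Q (N : Type m) [AddCommGroup N] [Module B N] :
    Exact (ιT1 P N) (d2Q P N) := by
  intro x
  obtain ⟨c, rfl⟩ := Submodule.Quotient.mk_surjective _ x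
  rw [d2Q_mk]
  constructor
  · intro h
    exact ⟨Submodule.Quotient.mk ⟨c, (mem_cocycles1_iff P c).2 h⟩, rfl⟩
  · rintro ⟨y, hy⟩
    obtain ⟨c', rfl⟩ := Submodule.Quotient.mk_surjective _ y
    rw [ιT1_mk, Submodule.Quotient.eq] at hy
    obtain ⟨ψ, hψ⟩ := hy
    rw [d1Star_apply] at hψ
    have hc : c = (c' : L1 P →ₗ[B] N) - ψ ∘ₗ d1 P := by rw [hψ]; abel
    rw [hc, LinearMap.sub_comp, LinearMap.comp_assoc, d1_comp_d2, LinearMap.comp_zero, sub_zero]
    exact (mem_cocycles1_iff P _).1 c'.2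

lemma exact_d2Q_mkQ (N : Type m) [AddCommGroup N] [Module B N] :
    Exact (d2Q P N) (LinearMap.range (d2Star P N)).mkQ := by
  intro φ
  rw [Submodule.mkQ_apply, Submodule.Quotient.mk_eq_zero, mem_range_d2Star_iff]
  constructor
  · rintro ⟨ψ, hψ⟩
    exact ⟨Submodule.Quotient.mk ψ, hψ⟩
  · rintro ⟨x, rfl⟩
    obtain ⟨c, rfl⟩ := Submodule.Quotient.mk_surjective _ x
    exact ⟨c, rfl⟩

lemma postQ1_exact (hf : Injective f) (hg : Surjective g) (hfg : Exact f g) :
    Exact (postQ1 P f) (postQ1 P g) := by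
  intro x
  obtain ⟨c, rfl⟩ := Submodule.Quotient.mk_surjective _ x
  rw [postQ1_mk, Submodule.Quotient.mk_eq_zero]
  constructor
  · rintro ⟨ψ'', hψ''⟩
    rw [d1Star_apply] at hψ''
    obtain ⟨ψ, hψ⟩ := exists_lift g hg ψ''
    have h0 : g ∘ₗ (c - ψ ∘ₗ d1 P) = 0 := by
      rw [LinearMap.comp_sub, ← LinearMap.comp_assoc, hψ, hψ'', sub_self]
    obtain ⟨c', hc'⟩ := exists_factor f g hf hfg _ h0
    refine ⟨Submodule.Quotient.mk c', ?_⟩
    rw [postQ1_mk, Submodule.Quotient.eq]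
    refine ⟨-ψ, ?_⟩
    rw [hc', d1Star_apply, LinearMap.neg_comp]
    abel
  · rintro ⟨y, hy⟩
    obtain ⟨c', rfl⟩ := Submodule.Quotient.mk_surjective _ y
    rw [postQ1_mk, Submodule.Quotient.eq] at hy
    obtain ⟨ψ, hψ⟩ := hy
    rw [d1Star_apply] at hψ
    refine ⟨-(g ∘ₗ ψ), ?_⟩
    have hc : c = f ∘ₗ c' - ψ ∘ₗ d1 P := by rw [hψ]; abel
    have e1 : g ∘ₗ (f ∘ₗ c') = 0 := by
      rw [← LinearMap.comp_assoc, hfg.linearMap_comp_eq_zero, LinearMap.zero_comp]
    rw [d1Star_apply, hc, LinearMap.comp_sub, e1, zero_sub, LinearMap.neg_comp,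
      LinearMap.comp_assoc]

lemma postQ1_surjective (hg : Surjective g) : Surjective (postQ1 P g) := by
  intro x
  obtain ⟨c, rfl⟩ := Submodule.Quotient.mk_surjective _ x
  obtain ⟨c', hc'⟩ := exists_lift g hg c
  exact ⟨Submodule.Quotient.mk c', by rw [postQ1_mk, hc']⟩

include f in
lemma post2_injective (hf : Injective f) : Injective (post2 P f) := by
  intro φ ψ h
  exact comp_injective f hf h

/-- The connecting map `δ₁ : T¹(M'') → T²(M')`. -/
noncomputable def δ₁ (hf : Injective f) (hg : Surjective g) (hfg : Exact f g) :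
    T1 P M'' →ₗ[B] T2 P M' :=
  SnakeLemma.δ' (d2Q P M') (d2Q P M) (d2Q P M'') (postQ1 P f) (postQ1 P g)
    (postQ1_exact P f g hf hg hfg)
    (post2 P f) (post2 P g) (post2_exact P f g hf hfg)
    (by
      apply Submodule.linearMap_qext
      ext c : 1
      exact (LinearMap.comp_assoc _ _ _).symm)
    (by
      apply Submodule.linearMap_qext
      ext c : 1
      exact (LinearMap.comp_assoc _ _ _).symm)
    (ιT1 P M'') (exact_ιT1_d2Q P M'')
    (LinearMap.range (d2Star P M')).mkQ (exact_d2Q_mkQ P M')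
    (postQ1_surjective P g hg) (post2_injective P f hf)


lemma exact_T1map_δ₁ (hf : Injective f) (hg : Surjective g) (hfg : Exact f g) :
    Exact (T1map P g) (δ₁ P f g hf hg hfg) :=
  SnakeLemma.exact_δ'_right (d2Q P M') (d2Q P M) (d2Q P M'') (postQ1 P f) (postQ1 P g)
    (postQ1_exact P f g hf hg hfg)
    (post2 P f) (post2 P g) (post2_exact P f g hf hfg)
    (by
      apply Submodule.linearMap_qext
      ext c : 1
      exact (LinearMap.comp_assoc _ _ _).symm)
    (by
      apply Submodule.linearMap_qext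
      ext c : 1
      exact (LinearMap.comp_assoc _ _ _).symm)
    (ιT1 P M) (exact_ιT1_d2Q P M)
    (ιT1 P M'') (exact_ιT1_d2Q P M'')
    (LinearMap.range (d2Star P M')).mkQ (exact_d2Q_mkQ P M')
    (postQ1_surjective P g hg) (post2_injective P f hf)
    (T1map P g) (by
      apply Submodule.linearMap_qext
      ext c : 1
      rfl) (ιT1_injective P M'')

lemma exact_δ₁_T2map (hf : Injective f) (hg : Surjective g) (hfg : Exact f g) :
    Exact (δ₁ P f g hf hg hfg) (T2map P f) :=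
  SnakeLemma.exact_δ'_left (d2Q P M') (d2Q P M) (d2Q P M'') (postQ1 P f) (postQ1 P g)
    (postQ1_exact P f g hf hg hfg)
    (post2 P f) (post2 P g) (post2_exact P f g hf hfg)
    (by
      apply Submodule.linearMap_qext
      ext c : 1
      exact (LinearMap.comp_assoc _ _ _).symm)
    (by
      apply Submodule.linearMap_qext
      ext c : 1
      exact (LinearMap.comp_assoc _ _ _).symm)
    (ιT1 P M'') (exact_ιT1_d2Q P M'')
    (LinearMap.range (d2Star P M')).mkQ (exact_d2Q_mkQ P M')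
    (LinearMap.range (d2Star P M)).mkQ (exact_d2Q_mkQ P M)
    (postQ1_surjective P g hg) (post2_injective P f hf)
    (T2map P f) (by ext c : 1; rfl) (Submodule.mkQ_surjective _)

/-- The nine-term exact sequence. -/
theorem nine_term (hf : Injective f) (hg : Surjective g) (hfg : Exact f g) :
    Injective (T0map P f) ∧ Exact (T0map P f) (T0map P g) ∧
      Exact (T1map P f) (T1map P g) ∧ Exact (T2map P f) (T2map P g) ∧
      ∃ (δ₀ : T0 P M'' →ₗ[B] T1 P M') (δ₁ : T1 P M'' →ₗ[B] T2 P M'),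
        Exact (T0map P g) δ₀ ∧ Exact δ₀ (T1map P f) ∧
        Exact (T1map P g) δ₁ ∧ Exact δ₁ (T2map P f) :=
  ⟨T0map_injective P f hf, T0_exact P f g hf hfg, T1_exact P f g hf hg hfg,
    T2_exact P f g hf hg hfg, δ₀ P f g hf hg hfg, δ₁ P f g hf hg hfg,
    exact_T0map_δ₀ P f g hf hg hfg, exact_δ₀_T1map P f g hf hg hfg,
    exact_T1map_δ₁ P f g hf hg hfg, exact_δ₁_T2map P f g hf hg hfg⟩

end Main

end Groth.Agent.Helper18.CotTLib
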